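import Groth.Agent.Funfld2.Residue.Theorem
import Groth.Agent.Funfld2.Hasse.Separable
import Mathlib.FieldTheory.IsAlgClosed.AlgebraicClosure
import Mathlib.RingTheory.Trace.Basic
import Mathlib.Algebra.CharP.Algebra

/-!
Geometric function fields: separable generation, rank one of the differentials, separability of the
residue fields of expansions, nondegeneracy of local residues.
-/

open FunFld Groth.FunFld1
open scoped LaurentSeries WithZero TensorProduct

namespace Groth.Funfld2.Residue

universe u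

variable {k : Type u} [Field k] {K : Type*} [Field K] [Algebra k K]

/-- In a geometric extension, `p`-th powers of independent elements are independent. -/
theorem linearIndepOn_pow (hg : IsGeometric k K) (p : ℕ) [hp : Fact p.Prime] [CharP k p]
    (s : Finset K) (hs : LinearIndepOn k _root_.id (s : Set K)) :
    LinearIndepOn k (· ^ p) (s : Set K) := by
  classical
  rw [linearIndepOn_finset_iff] at hs ⊢
  intro c hc i hi
  choose b hb using fun i : K =>
    IsAlgClosed.exists_pow_nat_eq (algebraMap k (AlgebraicClosure k) (c i)) hp.out.pos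
  let E := IntermediateField.adjoin k ((s.image b : Finset (AlgebraicClosure k)) : Set (AlgebraicClosure k))
  have hE : FiniteDimensional k E :=
    IntermediateField.finiteDimensional_adjoin fun x _ => Algebra.IsIntegral.isIntegral x
  let bE : K → E := fun i => if h : i ∈ s then
    ⟨b i, IntermediateField.subset_adjoin k _ (Finset.mem_coe.2 (Finset.mem_image_of_mem b h))⟩ else 0
  have hbE : ∀ i ∈ s, bE i ^ p = algebraMap k E (c i) := fun i hi => by
    refine Subtype.ext ?_
    simp only [bE, dif_pos hi, SubmonoidClass.coe_pow]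
    exact hb i
  set T := E ⊗[k] K
  let _ : Field T := (hg E hE).toField
  have : CharP T p := charP_of_injective_algebraMap (algebraMap k T).injective p
  set z : T := ∑ i ∈ s, bE i ⊗ₜ[k] i with hz
  have hzp : z ^ p = 0 := by
    rw [hz, sum_pow_char p]
    calc ∑ i ∈ s, (bE i ⊗ₜ[k] i) ^ p = ∑ i ∈ s, (1 : E) ⊗ₜ[k] (c i • i ^ p) := by
          refine Finset.sum_congr rfl fun i hi => ?_
          rw [Algebra.TensorProduct.tmul_pow, hbE i hi, Algebra.algebraMap_eq_smul_one,
            TensorProduct.smul_tmul]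
      _ = 0 := by rw [← TensorProduct.tmul_sum, hc, TensorProduct.tmul_zero]
  have hz0 : z = 0 := eq_zero_of_pow_eq_zero hzp
  have hfun : ∀ f : E →ₗ[k] k, f (bE i) = 0 := by
    intro f
    refine hs (fun j => f (bE j)) ?_ i hi
    have h := congrArg ((TensorProduct.lid k K).toLinearMap ∘ₗ LinearMap.rTensor K f) hz0
    simp only [hz, map_sum, map_zero, LinearMap.comp_apply, LinearMap.rTensor_tmul,
      LinearEquiv.coe_coe, TensorProduct.lid_tmul] at h
    exact h
  have hb0 : bE i = 0 := (Module.forall_dual_apply_eq_zero_iff k _).1 hfun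
  have := hbE i hi
  rw [hb0, zero_pow hp.out.ne_zero] at this
  exact (map_eq_zero _).1 this.symm

/-- A geometric function field has a separating element. -/
theorem exists_separating (hF : IsFF k K) (hg : IsGeometric k K) :
    ∃ x : K, Transcendental k x ∧
      Algebra.IsSeparable (IntermediateField.adjoin k ({x} : Set K)) K := by
  rcases CharP.exists' k with h0 | ⟨p, hp, hpk⟩
  · exact Groth.Funfld2.Hasse.exists_separating hF
  have := Groth.Funfld2.Hasse.essFiniteType_of_isFF hF
  obtain ⟨s, hs, hsep⟩ :=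
    exists_isTranscendenceBasis_and_isSeparable_of_linearIndepOn_pow_of_essFiniteType p hp.out
      (linearIndepOn_pow hg p) (K := K)
  have hcard := hs.cardinalMk_eq_trdeg
  rw [hF.trdeg_eq_one, Cardinal.mk_fintype] at hcard
  simp only [Fintype.card_coe, Nat.cast_eq_one] at hcard
  obtain ⟨x, rfl⟩ := Finset.card_eq_one.1 hcard
  refine ⟨x, hs.1.transcendental ⟨x, Finset.mem_singleton_self x⟩, ?_⟩
  rwa [Finset.coe_singleton] at hsep

/-- The differentials of a geometric function field are spanned by one differential. -/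
theorem exists_smul_D_eq (hF : IsFF k K) (hg : IsGeometric k K) :
    ∃ x₁ : K, ∀ w : Ω[K⁄k], ∃ c : K, c • KaehlerDifferential.D k K x₁ = w := by
  obtain ⟨x₁, -, hsep⟩ := exists_separating hF hg
  exact ⟨x₁, fun w => Submodule.mem_span_singleton.1
    (Groth.Funfld2.Hasse.span_D_eq_top (k := k) x₁ ▸ Submodule.mem_top)⟩

variable {F : Type*} [Field F] [Algebra k F]

section Expansion

variable (hF : IsFF k K) (hg : IsGeometric k K) {P : Place k K} {φ : K →ₐ[k] F⸨X⸩}
  (hφ : LocRes.IsExpansionAt P.1 φ)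

include hφ in
theorem coeff_one_ne_zero {t : K} (ht : P.1 t = WithZero.exp (-1)) :
    (φ t).coeff 1 ≠ 0 := by
  intro h
  have hv : Valued.v (φ t) = WithZero.exp (-(1 : ℤ)) := (hφ.1 t).trans ht
  have h2 : Valued.v (φ t) ≤ WithZero.exp (-(2 : ℤ)) :=
    (LaurentSeries.valuation_le_iff_coeff_lt_eq_zero F).2 fun i hi => by
      rcases lt_or_eq_of_le (show i ≤ 1 by omega) with hl | rfl
      · exact (LaurentSeries.valuation_le_iff_coeff_lt_eq_zero F).1 hv.le i hl
      · exact h
  rw [hv, WithZero.exp_le_exp] at h2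
  omega

theorem D_coeff_zero (f : F⸨X⸩) : (LocRes.D F f).coeff 0 = f.coeff 1 := by
  rw [LocRes.D_coeff, zero_add, one_smul]

include hF hg hφ

/-- A nonzero differential has nonzero expansion. -/
theorem D_expansion_ne_zero {x : K} (hx : KaehlerDifferential.D k K x ≠ 0) :
    LocRes.D F (φ x) ≠ 0 := by
  intro h0
  obtain ⟨x₁, hx₁⟩ := exists_smul_D_eq hF hg
  let _i := φ.toRingHom.toAlgebra
  have _t : IsScalarTower k K F⸨X⸩ := LocRes.isScalarTower_exp φ
  obtain ⟨c, hc⟩ := hx₁ (KaehlerDifferential.D k K x)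
  obtain ⟨t, ht⟩ := hφ.2.2
  obtain ⟨e, he⟩ := hx₁ (KaehlerDifferential.D k K t)
  have hx' : LocRes.dExp φ x = c • LocRes.dExp φ x₁ := by
    rw [← Derivation.liftKaehlerDifferential_comp_D (LocRes.dExp φ) x, ← hc, map_smul,
      Derivation.liftKaehlerDifferential_comp_D]
  have hc0 : c ≠ 0 := fun e0 => hx (by rw [← hc, e0, zero_smul])
  have hx0 : c • LocRes.dExp φ x₁ = 0 := hx'.symm.trans h0
  rw [smul_eq_zero, or_iff_right hc0] at hx0
  have ht' : LocRes.dExp φ t = 0 := by
    rw [← Derivation.liftKaehlerDifferential_comp_D (LocRes.dExp φ) t, ← he, map_smul,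
      Derivation.liftKaehlerDifferential_comp_D, hx0, smul_zero]
  refine coeff_one_ne_zero hφ ht ?_
  rw [← D_coeff_zero]
  exact congrArg (fun f : F⸨X⸩ => f.coeff 0) ht'

omit hF hg in
/-- The residue field of an expansion is formally unramified over the base as soon as one
differential spans. -/
theorem formallyUnramified_of_span {x₁ : K}
    (hx₁ : ∀ w : Ω[K⁄k], ∃ c : K, c • KaehlerDifferential.D k K x₁ = w) :
    Algebra.FormallyUnramified k F := by
  obtain ⟨t, ht⟩ := hφ.2.2
  let δ := KaehlerDifferential.D k F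
  refine ⟨subsingleton_of_forall_eq 0 fun w => ?_⟩
  by_contra hw
  obtain ⟨l, hl⟩ : ∃ l : Ω[F⁄k] →ₗ[F] F, l w ≠ 0 := by
    by_contra! hall
    exact hw ((Module.forall_dual_apply_eq_zero_iff F w).1 hall)
  let d : Derivation k F F := l.compDer δ
  obtain ⟨a, hda⟩ : ∃ a, d a ≠ 0 := by
    by_contra! hd
    refine hl ?_
    have : l = 0 := LinearMap.ext_on (KaehlerDifferential.span_range_derivation k F)
      (by rintro _ ⟨a, rfl⟩; exact hd a)
    rw [this, LinearMap.zero_apply]
  let _i := φ.toRingHom.toAlgebra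
  have _t : IsScalarTower k K F⸨X⸩ := LocRes.isScalarTower_exp φ
  -- the coefficientwise derivation along `φ`
  let δt : Derivation k K F⸨X⸩ := Derivation.mk'
    { toFun := fun z => (φ z).map d.toLinearMap
      map_add' := fun y z => by ext i; simp
      map_smul' := fun c z => by
        ext i
        rw [RingHom.id_apply, Algebra.smul_def, map_mul, LocRes.map_algebraMap,
          HahnSeries.C_mul_eq_smul, algebraMap_smul]
        simp }
    fun y z => by
      ext i
      change d ((φ (y * z)).coeff i) =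
        (φ y * (φ z).map d.toLinearMap + φ z * (φ y).map d.toLinearMap).coeff i
      obtain ⟨a', ha'⟩ : ∃ a' : ℤ, ∀ i < a', (φ y).coeff i = 0 ∧ ((φ y).map d.toLinearMap).coeff i = 0 :=
        ⟨(φ y).order, fun i hi => by
          have := HahnSeries.coeff_eq_zero_of_lt_order hi
          exact ⟨this, by simp [this]⟩⟩
      obtain ⟨b', hb'⟩ : ∃ b' : ℤ, ∀ i < b', (φ z).coeff i = 0 ∧ ((φ z).map d.toLinearMap).coeff i = 0 :=
        ⟨(φ z).order, fun i hi => by
          have := HahnSeries.coeff_eq_zero_of_lt_order hi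
          exact ⟨this, by simp [this]⟩⟩
      rw [map_mul, coeff_mul_eq_sum (fun i hi => (ha' i hi).1) (fun i hi => (hb' i hi).1),
        HahnSeries.coeff_add, coeff_mul_eq_sum (fun i hi => (ha' i hi).1) (fun i hi => (hb' i hi).2),
        mul_comm (φ z), coeff_mul_eq_sum (fun i hi => (ha' i hi).2) (fun i hi => (hb' i hi).1),
        map_sum, ← Finset.sum_add_distrib]
      refine Finset.sum_congr rfl fun j _ => ?_
      rw [Derivation.leibniz]
      simp only [smul_eq_mul, HahnSeries.map_coeff]
      change _ = _ * d _ + d _ * _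
      ring
  have hprop : ∀ z : K, LocRes.D F (φ t) * δt z = δt t * LocRes.D F (φ z) := by
    intro z
    have hlift : ∀ (Δ : Derivation k K F⸨X⸩) (y : K), ∃ c : K,
        c • KaehlerDifferential.D k K x₁ = KaehlerDifferential.D k K y ∧
        Δ y = φ c * Δ x₁ := by
      intro Δ y
      obtain ⟨c, hc⟩ := hx₁ (KaehlerDifferential.D k K y)
      refine ⟨c, hc, ?_⟩
      rw [← Derivation.liftKaehlerDifferential_comp_D Δ y, ← hc, map_smul,
        Derivation.liftKaehlerDifferential_comp_D]
      rfl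
    have hsame : ∀ y, ∃ c : K, LocRes.dExp φ y = φ c * LocRes.dExp φ x₁ ∧ δt y = φ c * δt x₁ := by
      intro y
      obtain ⟨c, hc⟩ := hx₁ (KaehlerDifferential.D k K y)
      refine ⟨c, ?_, ?_⟩ <;>
      · rw [← Derivation.liftKaehlerDifferential_comp_D _ y, ← hc, map_smul,
          Derivation.liftKaehlerDifferential_comp_D]
        rfl
    obtain ⟨c, hc1, hc2⟩ := hsame t
    obtain ⟨e, he1, he2⟩ := hsame z
    change LocRes.dExp φ t * δt z = δt t * LocRes.dExp φ z
    rw [hc1, hc2, he1, he2]
    ring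
  obtain ⟨z, hz, hza⟩ := hφ.2.1 a
  have hmap : ∀ {y : K} {m : ℤ}, (∀ i < m, (φ y).coeff i = 0) → ∀ i < m, (δt y).coeff i = 0 :=
    fun {y m} h i hi => by
      change d ((φ y).coeff i) = 0
      rw [h i hi, map_zero]
  have h1 : ∀ i < (1 : ℤ), (φ t).coeff i = 0 :=
    (LaurentSeries.valuation_le_iff_coeff_lt_eq_zero F).1 ((hφ.1 t).trans ht).le
  have h0 : ∀ i < (0 : ℤ), (φ z).coeff i = 0 := fun i hi =>
    coeff_eq_zero_of_val (N := 0) (by rw [hφ.1, WithZero.exp_zero]; exact hz) (by omega)
  have hDz : ∀ i < (0 : ℤ), (LocRes.D F (φ z)).coeff i = 0 := fun i hi => by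
    rw [LocRes.D_coeff]
    rcases (Int.add_one_le_iff.2 hi).lt_or_eq with h | h
    · rw [h0 _ h, smul_zero]
    · rw [h, zero_smul]
  have hDt : ∀ i < (0 : ℤ), (LocRes.D F (φ t)).coeff i = 0 := fun i hi => by
    rw [LocRes.D_coeff, h1 _ (by omega), smul_zero]
  have h := congrArg (fun f : F⸨X⸩ => f.coeff 0) (hprop z)
  rw [coeff_mul_eq_sum hDt (hmap h0), coeff_mul_eq_sum (hmap h1) hDz,
    Finset.Icc_eq_empty (show ¬ (0 : ℤ) ≤ 0 - 1 by omega), Finset.sum_empty, sub_zero, Finset.Icc_self,
    Finset.sum_singleton, sub_zero, D_coeff_zero] at h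
  refine mul_ne_zero (coeff_one_ne_zero hφ ht) ?_ h
  change d ((φ z).coeff 0) ≠ 0
  rwa [hza]

/-- The residue field of an expansion is formally unramified over the base. -/
theorem formallyUnramified : Algebra.FormallyUnramified k F := by
  obtain ⟨x₁, hx₁⟩ := exists_smul_D_eq hF hg
  exact formallyUnramified_of_span hφ hx₁

/-- Nondegeneracy of the local residue: some `y` of prescribed size has nonzero residue against
a given nonzero series. -/
theorem exists_res_ne_zero [FiniteDimensional k F] {g : F⸨X⸩} {m : ℤ}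
    (hg0 : ∀ i < m, g.coeff i = 0) (hgm : g.coeff m ≠ 0) :
    ∃ y : K, P.1 y ≤ WithZero.exp (m + 1) ∧ Algebra.trace k F (LocRes.res F (φ y * g)) ≠ 0 := by
  have := formallyUnramified hF hg hφ
  have hsep : Algebra.IsSeparable k F := Algebra.FormallyUnramified.isSeparable k F
  obtain ⟨e, he⟩ := Algebra.trace_surjective k F 1
  obtain ⟨t, ht⟩ := hφ.2.2
  have ht0 : t ≠ 0 := fun e => by rw [e, map_zero] at ht; exact WithZero.exp_ne_zero ht.symm
  set y₀ := t ^ (-(m + 1)) with hy₀
  have hv : Valued.v (φ y₀) = WithZero.exp (m + 1) := by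
    rw [hφ.1, hy₀, map_zpow₀, ht, ← WithZero.exp_zsmul]
    congr 1
    simp
  have hlow : ∀ i < -(m + 1), (φ y₀).coeff i = 0 := fun i hi => coeff_eq_zero_of_val hv.le hi
  have hlead : (φ y₀).coeff (-(m + 1)) ≠ 0 := by
    intro h
    have h2 : Valued.v (φ y₀) ≤ WithZero.exp (-(-(m + 1) + 1)) :=
      (LaurentSeries.valuation_le_iff_coeff_lt_eq_zero F).2 fun i hi => by
        rcases lt_or_eq_of_le (show i ≤ -(m + 1) by omega) with hl | rfl
        · exact hlow i hl
        · exact h
    rw [hv, WithZero.exp_le_exp] at h2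
    omega
  obtain ⟨b, hb, hb0⟩ := hφ.2.1 (e / ((φ y₀).coeff (-(m + 1)) * g.coeff m))
  have hprod : Valued.v (φ (b * y₀)) ≤ WithZero.exp (m + 1) := by
    rw [map_mul, map_mul, hφ.1, hv]
    exact mul_le_of_le_one_left' hb
  refine ⟨b * y₀, by rwa [hφ.1] at hprod, ?_⟩
  have hbl : ∀ i < (0 : ℤ), (φ b).coeff i = 0 := fun i hi =>
    coeff_eq_zero_of_val (N := 0) (by rw [hφ.1, WithZero.exp_zero]; exact hb) (by omega)
  have hy : ∀ i < -(m + 1), (φ (b * y₀)).coeff i = 0 := fun i hi => coeff_eq_zero_of_val hprod hi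
  rw [LocRes.res_apply, coeff_mul_eq_sum hy hg0, show (-1 : ℤ) - -(m + 1) = m by ring, Finset.Icc_self,
    Finset.sum_singleton, show (-1 : ℤ) - m = -(m + 1) by ring, map_mul φ,
    coeff_mul_eq_sum hbl hlow, sub_zero, Finset.Icc_self, Finset.sum_singleton, sub_self, hb0,
    mul_assoc, div_mul_cancel₀ _ (mul_ne_zero hlead hgm), he]
  exact one_ne_zero

end Expansion

end Groth.Funfld2.Residue
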