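import Groth.Agent.Funfld2.Residue.Geometric

/-! The Weil differential of `u dv` and its divisor. -/

open FunFld Groth.FunFld1
open scoped LaurentSeries WithZero

namespace Groth.Funfld2.Residue

universe u

variable {k : Type u} [Field k] {K : Type*} [Field K] [Algebra k K]

section Local

variable {F : Type*} [Field F] [Algebra k F] {P : Place k K} {φ : K →ₐ[k] F⸨X⸩}
  (hφ : LocRes.IsExpansionAt P.1 φ)

theorem locRes_eq_zero_of_val {y u v : K} {c : ℤ} {g : F⸨X⸩} (hg : g = φ u * LocRes.D F (φ v))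
    (hy : Valued.v (φ y) ≤ WithZero.exp c) (h : Valued.v g ≤ WithZero.exp (-c)) :
    LocRes.locRes φ (y * u) v = 0 := by
  have e : φ (y * u) * LocRes.D F (φ v) = φ y * g := by rw [hg, map_mul]; ring
  have hv : Valued.v (φ y * g) ≤ (1 : ℤᵐ⁰) := by
    rw [map_mul]
    refine (mul_le_mul' hy h).trans_eq ?_
    rw [← WithZero.exp_add, add_neg_cancel, WithZero.exp_zero]
  rw [LocRes.locRes, LocRes.resExp, e, LocRes.res_apply,
    coeff_eq_zero_of_val (N := 0) (by rwa [WithZero.exp_zero]) (by norm_num), map_zero]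

end Local

section Global

variable {F : Place k K → Type*} [∀ P, Field (F P)] [∀ P, Algebra k (F P)]
  [∀ P, FiniteDimensional k (F P)] (hK : IsFunctionField k K) (φ : ∀ P, K →ₐ[k] (F P)⸨X⸩)
  (hφ : ∀ P, LocRes.IsExpansionAt P.1 (φ P))

include hK hφ

omit [∀ P, FiniteDimensional k (F P)] in
theorem finite_support_locRes (u v : K) (a : adele k K) :
    (Function.support fun P => LocRes.locRes (φ P) (a.1 P * u) v).Finite := by
  have ha : ∀ᶠ P : Place k K in Filter.cofinite, P.1 (a.1 P) ≤ 1 := a.2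
  refine (Filter.eventually_cofinite.1
    (ha.and ((eventually_integral φ hK hφ u).and (eventually_integral φ hK hφ v)))).subset
    fun P hP hgood => hP ?_
  obtain ⟨h1, h2, h3⟩ := hgood
  refine locRes_eq_zero_of_val rfl (c := 0) (by rw [(hφ P).1, WithZero.exp_zero]; exact h1) ?_
  rw [neg_zero, WithZero.exp_zero, map_mul]
  refine mul_le_one' h2 (val_le_one_of_coeff fun i hi => ?_)
  rw [LocRes.D_coeff]
  rcases (Int.add_one_le_iff.2 hi).lt_or_eq with h | h
  · rw [coeff_eq_zero_of_val (N := 0) (by rwa [WithZero.exp_zero]) (by omega), smul_zero]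
  · rw [h, zero_smul]

/-- The functional `a ↦ ∑ Res_P (a_P u dv)`. -/
noncomputable def resForm (u v : K) : Module.Dual k (adele k K) where
  toFun a := ∑ᶠ P, LocRes.locRes (φ P) (a.1 P * u) v
  map_add' a b := by
    rw [← finsum_add_distrib (finite_support_locRes hK φ hφ u v a)
      (finite_support_locRes hK φ hφ u v b)]
    refine finsum_congr fun P => ?_
    simp only [Submodule.coe_add, Pi.add_apply, LocRes.locRes, LocRes.resExp, add_mul, map_add]
  map_smul' c a := by
    rw [RingHom.id_apply, smul_finsum]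
    refine finsum_congr fun P => ?_
    simp only [Submodule.coe_smul, Pi.smul_apply, LocRes.locRes, LocRes.resExp]
    rw [Algebra.smul_def, mul_assoc, map_mul (φ P), LocRes.map_algebraMap, mul_assoc,
      HahnSeries.C_mul_eq_smul, LinearMap.map_smul, algebraMap_smul, LinearMap.map_smul]

theorem resForm_apply (u v : K) (a : adele k K) :
    resForm hK φ hφ u v a = ∑ᶠ P, LocRes.locRes (φ P) (a.1 P * u) v := rfl

theorem resForm_single (u v : K) {P : Place k K} (a : adele k K) (h : ∀ Q ≠ P, a.1 Q = 0) :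
    resForm hK φ hφ u v a = LocRes.locRes (φ P) (a.1 P * u) v := by
  refine finsum_eq_single _ P fun Q hQ => ?_
  simp [h Q hQ, LocRes.locRes, LocRes.resExp]

theorem mem_WD_of_forall_le (u v : K) {E : Divisor k K}
    (h : ∀ P, LocRes.vDiff (φ P) u v ≤ WithZero.exp (-(E P))) : resForm hK φ hφ u v ∈ WD E := by
  rw [mem_WD_iff]
  intro a ha
  obtain ⟨b, hb, c, ⟨x, rfl⟩, hbc⟩ := Submodule.mem_sup.1 (Submodule.mem_comap.1 ha)
  rw [resForm_apply]
  obtain ⟨hx1, hx2⟩ := residue_theorem φ hK hφ (x * u) v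
  have e : ∀ P, LocRes.locRes (φ P) (a.1 P * u) v = LocRes.locRes (φ P) (x * u) v := by
    intro P
    have ha' : a.1 P = b P + x := (congrFun hbc P).symm
    have h0 : LocRes.locRes (φ P) (b P * u) v = 0 :=
      locRes_eq_zero_of_val rfl (by rw [(hφ P).1]; exact hb P) (h P)
    simp only [LocRes.locRes, LocRes.resExp] at h0 ⊢
    rw [ha', add_mul, map_add, add_mul, map_add, map_add, h0, zero_add]
  rw [finsum_congr e, hx2]

variable (hg : IsGeometric k K)
include hg

theorem vDiff_ne_zero {u v : K} (hu : u ≠ 0) (hv : KaehlerDifferential.D k K v ≠ 0) (P : Place k K) :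
    LocRes.vDiff (φ P) u v ≠ 0 := by
  have hD := D_expansion_ne_zero (IsFF.of_isFunctionField hK) hg (hφ P) hv
  rw [LocRes.vDiff, ne_eq, map_eq_zero, mul_eq_zero]
  exact not_or.2 ⟨by simpa using hu, hD⟩

theorem vDiff_eq_exp {u v : K} (hu : u ≠ 0) (hv : KaehlerDifferential.D k K v ≠ 0) (P : Place k K) :
    LocRes.vDiff (φ P) u v = WithZero.exp (-LocRes.ordDiff (φ P) u v) := by
  rw [LocRes.ordDiff, neg_neg, WithZero.exp_log (vDiff_ne_zero hK φ hφ hg hu hv P)]

/-- A test adele with one component and nonzero value. -/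
theorem exists_test {u v : K} (hu : u ≠ 0) (hv : KaehlerDifferential.D k K v ≠ 0) (P : Place k K) :
    ∃ a : adele k K, (∀ Q ≠ P, a.1 Q = 0) ∧
      P.1 (a.1 P) ≤ WithZero.exp (LocRes.ordDiff (φ P) u v + 1) ∧ resForm hK φ hφ u v a ≠ 0 := by
  classical
  set m := LocRes.ordDiff (φ P) u v with hm
  have hval : Valued.v (φ P u * LocRes.D (F P) (φ P v)) = WithZero.exp (-m) :=
    vDiff_eq_exp hK φ hφ hg hu hv P
  obtain ⟨y, hy, hy0⟩ := exists_res_ne_zero (IsFF.of_isFunctionField hK) hg (hφ P) (m := m)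
    ((LaurentSeries.valuation_le_iff_coeff_lt_eq_zero (F P)).1 hval.le) (fun h => by
      have h2 : Valued.v (φ P u * LocRes.D (F P) (φ P v)) ≤ WithZero.exp (-(m + 1)) :=
        (LaurentSeries.valuation_le_iff_coeff_lt_eq_zero (F P)).2 fun i hi => by
          rcases lt_or_eq_of_le (show i ≤ m by omega) with hl | rfl
          · exact (LaurentSeries.valuation_le_iff_coeff_lt_eq_zero (F P)).1 hval.le i hl
          · exact h
      rw [hval, WithZero.exp_le_exp] at h2
      omega)
  have ha : Pi.single P y ∈ adele k K :=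
    (Filter.eventually_cofinite_ne P).mono fun Q hQ => by
      rw [Pi.single_eq_of_ne hQ, map_zero]; exact zero_le
  refine ⟨⟨Pi.single P y, ha⟩, fun Q hQ => Pi.single_eq_of_ne (M := fun _ : Place k K => K) hQ y, ?_, ?_⟩
  · simpa using hy
  · rw [resForm_single hK φ hφ u v (P := P) ⟨Pi.single P y, ha⟩ fun Q hQ => Pi.single_eq_of_ne (M := fun _ : Place k K => K) hQ y]
    simpa [LocRes.locRes, LocRes.resExp, map_mul, mul_assoc] using hy0

theorem resForm_ne_zero {u v : K} (hu : u ≠ 0) (hv : KaehlerDifferential.D k K v ≠ 0) :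
    resForm hK φ hφ u v ≠ 0 := by
  obtain ⟨P⟩ := (IsFF.of_isFunctionField hK).nonempty_place
  obtain ⟨a, -, -, ha⟩ := exists_test hK φ hφ hg hu hv P
  exact fun h => ha (by rw [h]; rfl)

/-- The residue form is a nonzero Weil differential with divisor the divisor of `u dv`. -/
theorem exists_canonical {u v : K} (hu : u ≠ 0) (hv : KaehlerDifferential.D k K v ≠ 0) :
    IsWeil (resForm hK φ hφ u v) ∧ ∃ C : Divisor k K,
      IsDivOf (resForm hK φ hφ u v) C ∧ ∀ P, C P = LocRes.ordDiff (φ P) u v := by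
  classical
  have h0 := resForm_ne_zero hK φ hφ hg hu hv
  have hfin : (Function.support fun P : Place k K => min (LocRes.ordDiff (φ P) u v) 0).Finite := by
    refine (Filter.eventually_cofinite.1
      ((eventually_integral φ hK hφ u).and (eventually_integral φ hK hφ v))).subset fun P hP hgood => hP ?_
    refine min_eq_right ?_
    have h1 : LocRes.vDiff (φ P) u v ≤ (1 : ℤᵐ⁰) := by
      rw [LocRes.vDiff, map_mul]
      refine mul_le_one' hgood.1 (val_le_one_of_coeff fun i hi => ?_)
      rw [LocRes.D_coeff]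
      rcases (Int.add_one_le_iff.2 hi).lt_or_eq with h | h
      · rw [coeff_eq_zero_of_val (N := 0) (by rw [WithZero.exp_zero]; exact hgood.2) (by omega), smul_zero]
      · rw [h, zero_smul]
    rw [vDiff_eq_exp hK φ hφ hg hu hv P, ← WithZero.exp_zero, WithZero.exp_le_exp] at h1
    omega
  have hW : IsWeil (resForm hK φ hφ u v) := by
    refine ⟨Finsupp.ofSupportFinite _ hfin, mem_WD_of_forall_le hK φ hφ u v fun P => ?_⟩
    rw [vDiff_eq_exp hK φ hφ hg hu hv P, WithZero.exp_le_exp]
    change _ ≤ -(min _ _)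
    omega
  obtain ⟨C, hC⟩ := exists_isDivOf hK hW h0
  refine ⟨hW, C, hC, ?_⟩
  have hmem := (hC C).2 le_rfl
  have hle : ∀ P, C P ≤ LocRes.ordDiff (φ P) u v := by
    intro P
    by_contra hlt
    obtain ⟨a, ha0, haP, hane⟩ := exists_test hK φ hφ hg hu hv P
    refine hane (mem_WD_iff.1 hmem a (Submodule.mem_comap.2 (Submodule.mem_sup_left ?_)))
    intro Q
    rcases eq_or_ne Q P with rfl | hQ
    · exact haP.trans (WithZero.exp_le_exp.2 (by omega))
    · change Q.1 (a.1 Q) ≤ _
      rw [ha0 Q hQ, map_zero]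
      exact zero_le
  intro P
  refine le_antisymm (hle P) (not_lt.1 fun hlt => ?_)
  have hmem' : resForm hK φ hφ u v ∈ WD (C + Finsupp.single P 1) := by
    refine mem_WD_of_forall_le hK φ hφ u v fun Q => ?_
    rw [vDiff_eq_exp hK φ hφ hg hu hv Q, WithZero.exp_le_exp, Finsupp.add_apply, Finsupp.single_apply]
    have := hle Q
    split_ifs with e
    · subst e; omega
    · omega
  have := ((hC _).1 hmem') P
  simp at this

omit hg in
/-- `resForm` is multiplicative in the first argument. -/
theorem mulW_resForm (x u v : K) :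
    mulW x (fun _ => (IsFF.of_isFunctionField hK).smul_mem_adele x) (resForm hK φ hφ u v) =
      resForm hK φ hφ (x * u) v := by
  ext a
  rw [mulW_apply, resForm_apply, resForm_apply]
  refine finsum_congr fun P => ?_
  simp only [Pi.smul_apply, smul_eq_mul]
  ring_nf

theorem forall_vDiff_le_iff {v : K} (hv : KaehlerDifferential.D k K v ≠ 0) {C : Divisor k K}
    (hC : ∀ P, C P = LocRes.ordDiff (φ P) 1 v) (D : Divisor k K) (y : K) :
    (∀ P, LocRes.vDiff (φ P) y v ≤ WithZero.exp (-(D P))) ↔ y ∈ L (C - D) := by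
  refine forall_congr' fun P => ?_
  have e : LocRes.vDiff (φ P) y v = P.1 y * WithZero.exp (-(C P)) := by
    rw [LocRes.vDiff, map_mul, (hφ P).1, hC P, ← vDiff_eq_exp hK φ hφ hg one_ne_zero hv P,
      LocRes.vDiff, map_one, one_mul]
  rw [e, Finsupp.sub_apply]
  rcases eq_or_ne y 0 with rfl | hy
  · simp
  · rw [val_eq_exp_neg_ord P hy, ← WithZero.exp_add, WithZero.exp_le_exp, WithZero.exp_le_exp]
    omega

end Global

end Groth.Funfld2.Residue
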