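import Groth.Agent.Funfld2.Residue.FiniteRank
import Groth.Prelude.Def_LocRes
import Mathlib.RingTheory.Trace.Defs

/-! The local residue as the trace of a finite-rank commutator on Laurent series. -/

open scoped LaurentSeries WithZero

namespace Groth.Funfld2.Residue

variable {k F : Type*} [Field k] [Field F] [Algebra k F]

theorem coeff_eq_zero_of_val {f : F⸨X⸩} {N : ℤ} (hf : Valued.v f ≤ WithZero.exp N) {i : ℤ}
    (hi : i < -N) : f.coeff i = 0 :=
  (LaurentSeries.valuation_le_iff_coeff_lt_eq_zero F (D := -N)).1 (by rwa [neg_neg]) i hi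

/-- Coefficients of a product as a finite sum. -/
theorem coeff_mul_eq_sum {f g : F⸨X⸩} {a b : ℤ} (hf : ∀ i < a, f.coeff i = 0)
    (hg : ∀ i < b, g.coeff i = 0) (m : ℤ) :
    (f * g).coeff m = ∑ i ∈ Finset.Icc b (m - a), f.coeff (m - i) * g.coeff i := by
  classical
  rw [HahnSeries.coeff_mul]
  refine Finset.sum_bij_ne_zero (fun p _ _ => p.2) ?_ ?_ ?_ ?_
  · intro p hp hne
    rw [Finset.mem_antidiagonal] at hp
    rw [Finset.mem_Icc]
    have h1 : b ≤ p.2 := not_lt.1 fun h => hne (by rw [hg _ h, mul_zero])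
    have h2 : a ≤ p.1 := not_lt.1 fun h => hne (by rw [hf _ h, zero_mul])
    have := hp.2.2
    omega
  · intro p hp _ p' hp' _ e
    rw [Finset.mem_antidiagonal] at hp hp'
    exact Prod.ext (by omega) e
  · intro i _ hne
    refine ⟨(m - i, i), ?_, hne, rfl⟩
    rw [Finset.mem_antidiagonal]
    exact ⟨left_ne_zero_of_mul hne, right_ne_zero_of_mul hne, sub_add_cancel m i⟩
  · intro p hp _
    rw [Finset.mem_antidiagonal] at hp
    rw [show m - p.2 = p.1 by omega]

variable (k F)

/-- The polar part. -/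
noncomputable def polar : F⸨X⸩ →ₗ[k] F⸨X⸩ :=
  HahnSeries.truncLTLinearMap k (0 : ℤ)

/-- The integral part. -/
noncomputable def integral : F⸨X⸩ →ₗ[k] F⸨X⸩ := LinearMap.id - polar k F

variable {k F}

theorem coeff_polar (h : F⸨X⸩) (i : ℤ) :
    (polar k F h).coeff i = if i < 0 then h.coeff i else 0 := by
  simp [polar, HahnSeries.coe_truncLTLinearMap, HahnSeries.coeff_truncLT]

theorem coeff_integral (h : F⸨X⸩) (i : ℤ) :
    (integral k F h).coeff i = if i < 0 then 0 else h.coeff i := by
  simp only [integral, LinearMap.sub_apply, LinearMap.id_apply, HahnSeries.coeff_sub, coeff_polar]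
  split_ifs <;> simp

/-- Multiplication by a Laurent series, linear over the base field. -/
noncomputable def mulBy (f : F⸨X⸩) : F⸨X⸩ →ₗ[k] F⸨X⸩ where
  toFun h := f * h
  map_add' := mul_add f
  map_smul' c h := by
    rw [RingHom.id_apply, ← algebraMap_smul F c h, ← algebraMap_smul F c (f * h),
      ← HahnSeries.C_mul_eq_smul, ← HahnSeries.C_mul_eq_smul]
    ring

theorem mulBy_apply (f h : F⸨X⸩) : mulBy (k := k) f h = f * h := rfl

theorem coeff_integral_eq_zero (h : F⸨X⸩) {i : ℤ} (hi : i < 0) :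
    (integral k F h).coeff i = 0 := by
  rw [coeff_integral, if_pos hi]

/-- `π g q f π`. -/
noncomputable def corner (f g : F⸨X⸩) : F⸨X⸩ →ₗ[k] F⸨X⸩ :=
  integral k F ∘ₗ mulBy g ∘ₗ polar k F ∘ₗ mulBy f ∘ₗ integral k F

/-- The coefficient functional. -/
noncomputable def coefV (f : F⸨X⸩) (j : ℕ) : F⸨X⸩ →ₗ[k] F :=
  (HahnSeries.coeff.linearMap (R := k) (V := F) (-((j : ℤ) + 1))) ∘ₗ mulBy f ∘ₗ integral k F

/-- The slot insertion. -/
noncomputable def slotU (g : F⸨X⸩) (j : ℕ) : F →ₗ[k] F⸨X⸩ :=
  integral k F ∘ₗ mulBy g ∘ₗ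
    (HahnSeries.single.linearMap (R := k) (V := F) (-((j : ℤ) + 1)))

theorem corner_eq {f : F⸨X⸩} (g : F⸨X⸩) {N : ℕ} (hf : ∀ i < -(N : ℤ), f.coeff i = 0) :
    corner (k := k) f g = ∑ j ∈ Finset.range N, slotU g j ∘ₗ coefV f j := by
  refine LinearMap.ext fun h => ?_
  have hp : polar k F (f * integral k F h) =
      ∑ j ∈ Finset.range N, HahnSeries.single (-((j : ℤ) + 1)) ((f * integral k F h).coeff (-((j : ℤ) + 1))) := by
    ext i
    rw [coeff_polar, HahnSeries.coeff_sum]
    split_ifs with hi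
    · rcases le_or_gt (-(N : ℤ)) i with hN | hN
      · rw [Finset.sum_eq_single (-i - 1).toNat]
        · rw [show -(((-i - 1).toNat : ℤ) + 1) = i by omega, HahnSeries.coeff_single_same]
        · intro j _ hj
          exact HahnSeries.coeff_single_of_ne (by omega)
        · intro hmem
          rw [Finset.mem_range] at hmem
          omega
      · rw [coeff_mul_eq_sum hf (fun l hl => coeff_integral_eq_zero h hl) i,
          Finset.Icc_eq_empty (by omega), Finset.sum_empty]
        refine (Finset.sum_eq_zero fun j hj => ?_).symm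
        rw [Finset.mem_range] at hj
        exact HahnSeries.coeff_single_of_ne (by omega)
    · exact (Finset.sum_eq_zero fun j _ => HahnSeries.coeff_single_of_ne (by omega)).symm
  simp only [corner, LinearMap.comp_apply, mulBy_apply, hp, Finset.mul_sum, map_sum,
    LinearMap.coe_sum, Finset.sum_apply]
  exact Finset.sum_congr rfl fun j _ => rfl

variable [FiniteDimensional k F]

theorem tr_slot {f g : F⸨X⸩} {N : ℕ} (hf : ∀ i < -(N : ℤ), f.coeff i = 0) {j : ℕ} (hj : j < N) :
    tr (slotU (k := k) g j ∘ₗ coefV f j) = Algebra.trace k F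
      (∑ i ∈ Finset.range (N - j), f.coeff (-((i + j + 1 : ℕ) : ℤ)) * g.coeff ((i + j + 1 : ℕ) : ℤ)) := by
  rw [tr_comp, Algebra.trace_apply]
  congr 1
  refine LinearMap.ext fun c => ?_
  simp only [LinearMap.comp_apply, coefV, slotU, mulBy_apply, Algebra.coe_lmul_eq_mul,
    LinearMap.mul_apply']
  change (f * integral k F (integral k F (g * HahnSeries.single (-((j : ℤ) + 1)) c))).coeff
    (-((j : ℤ) + 1)) = _
  have hw : ∀ i : ℤ, i < 0 → (integral k F (integral k F (g * HahnSeries.single (-((j : ℤ) + 1)) c))).coeff i = 0 :=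
    fun i hi => coeff_integral_eq_zero _ hi
  rw [coeff_mul_eq_sum hf hw, Finset.sum_mul]
  refine Finset.sum_bij' (fun i _ => i.toNat) (fun i _ => (i : ℤ)) ?_ ?_ ?_ ?_ ?_
  · intro i hi; rw [Finset.mem_Icc] at hi; rw [Finset.mem_range]; omega
  · intro i hi; rw [Finset.mem_range] at hi; rw [Finset.mem_Icc]; omega
  · intro i hi; rw [Finset.mem_Icc] at hi; omega
  · intro i _; omega
  · intro i hi
    rw [Finset.mem_Icc] at hi
    obtain ⟨l, rfl⟩ := Int.eq_ofNat_of_zero_le hi.1
    rw [coeff_integral, if_neg (by omega), coeff_integral, if_neg (by omega)]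
    have h := HahnSeries.coeff_mul_single_add (r := c) (x := g)
      (a := ((l + j + 1 : ℕ) : ℤ)) (b := -((j : ℤ) + 1))
    rw [show ((l + j + 1 : ℕ) : ℤ) + -((j : ℤ) + 1) = (l : ℤ) by push_cast; ring] at h
    rw [h, show -((j : ℤ) + 1) - (l : ℤ) = -((l + j + 1 : ℕ) : ℤ) by push_cast; ring, Int.toNat_natCast]
    ring

omit [Algebra k F] [FiniteDimensional k F] in
theorem sum_triangle (a : ℕ → F) (N : ℕ) :
    ∑ j ∈ Finset.range N, ∑ i ∈ Finset.range (N - j), a (i + j + 1) =
      ∑ n ∈ Finset.range N, (n + 1) • a (n + 1) := by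
  induction N with
  | zero => simp
  | succ N ih =>
    rw [Finset.sum_range_succ, Finset.sum_range_succ (f := fun n => (n + 1) • a (n + 1)), ← ih,
      show N + 1 - N = 1 by omega, Finset.sum_range_one, zero_add]
    have : ∀ j ∈ Finset.range N, ∑ i ∈ Finset.range (N + 1 - j), a (i + j + 1) =
        (∑ i ∈ Finset.range (N - j), a (i + j + 1)) + a (N + 1) := by
      intro j hj
      rw [Finset.mem_range] at hj
      rw [show N + 1 - j = N - j + 1 by omega, Finset.sum_range_succ,
        show N - j + j + 1 = N + 1 by omega]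
    rw [Finset.sum_congr rfl this, Finset.sum_add_distrib, Finset.sum_const, Finset.card_range,
      add_assoc, succ_nsmul]

omit [FiniteDimensional k F] in
theorem sum_sym (a : ℤ → F) (N : ℕ) :
    ∑ n ∈ Finset.Icc (-(N : ℤ)) N, n • a n =
      ∑ n ∈ Finset.range N, (n + 1) • (a ((n : ℤ) + 1) - a (-((n : ℤ) + 1))) := by
  induction N with
  | zero => simp
  | succ N ih =>
    have e : Finset.Icc (-((N + 1 : ℕ) : ℤ)) ((N + 1 : ℕ) : ℤ) =
        insert ((N : ℤ) + 1) (insert (-((N : ℤ) + 1)) (Finset.Icc (-(N : ℤ)) N)) := by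
      ext x; simp only [Finset.mem_Icc, Finset.mem_insert]; omega
    rw [e, Finset.sum_insert (by simp only [Finset.mem_Icc, Finset.mem_insert]; omega),
      Finset.sum_insert (by simp only [Finset.mem_Icc]; omega), ih, Finset.sum_range_succ]
    simp only [nsmul_eq_mul, zsmul_eq_mul]
    push_cast
    ring

omit [FiniteDimensional k F] in
theorem fr_corner [FiniteDimensional k F] {f : F⸨X⸩} (g : F⸨X⸩) {N : ℕ}
    (hf : ∀ i < -(N : ℤ), f.coeff i = 0) : FR (corner (k := k) f g) := by
  rw [corner_eq g hf]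
  exact fr_sum _ fun j _ => fr_of_finite_mid _ _

omit [FiniteDimensional k F] in
theorem fr_polar_mul [FiniteDimensional k F] {f : F⸨X⸩} {N : ℕ}
    (hf : ∀ i < -(N : ℤ), f.coeff i = 0) :
    FR (polar k F ∘ₗ mulBy f ∘ₗ integral k F) := by
  have e : polar k F ∘ₗ mulBy f ∘ₗ integral k F = ∑ j ∈ Finset.range N,
      HahnSeries.single.linearMap (R := k) (V := F) (-((j : ℤ) + 1)) ∘ₗ coefV f j := by
    refine LinearMap.ext fun h => ?_
    ext i
    rw [LinearMap.sum_apply, HahnSeries.coeff_sum]
    change (polar k F (f * integral k F h)).coeff i = ∑ j ∈ Finset.range N,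
      (HahnSeries.single (-((j : ℤ) + 1)) ((f * integral k F h).coeff (-((j : ℤ) + 1)))).coeff i
    rw [coeff_polar]
    split_ifs with hi
    · rcases le_or_gt (-(N : ℤ)) i with hN | hN
      · rw [Finset.sum_eq_single (-i - 1).toNat]
        · rw [show -(((-i - 1).toNat : ℤ) + 1) = i by omega, HahnSeries.coeff_single_same]
        · intro j _ hj
          exact HahnSeries.coeff_single_of_ne (by omega)
        · intro hmem
          rw [Finset.mem_range] at hmem
          omega
      · rw [coeff_mul_eq_sum hf (fun l hl => coeff_integral_eq_zero h hl) i,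
          Finset.Icc_eq_empty (by omega), Finset.sum_empty]
        refine (Finset.sum_eq_zero fun j hj => ?_).symm
        rw [Finset.mem_range] at hj
        exact HahnSeries.coeff_single_of_ne (by omega)
    · exact (Finset.sum_eq_zero fun j _ => HahnSeries.coeff_single_of_ne (by omega)).symm
  rw [e]
  exact fr_sum _ fun j _ => fr_of_finite_mid _ _

/-- The residue of `f dg` is the trace of the commutator of the integral corners. -/
theorem tr_corner_sub {f g : F⸨X⸩} {N : ℕ} (hf : ∀ i < -(N : ℤ), f.coeff i = 0)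
    (hg : ∀ i < -(N : ℤ), g.coeff i = 0) :
    tr (corner (k := k) f g - corner g f) =
      Algebra.trace k F (LocRes.res F (f * LocRes.D F g)) := by
  rw [tr_sub (fr_corner g hf) (fr_corner f hg), corner_eq g hf, corner_eq f hg,
    tr_sum _ fun j _ => fr_of_finite_mid _ _, tr_sum _ fun j _ => fr_of_finite_mid _ _,
    Finset.sum_congr rfl fun j hj => tr_slot hf (Finset.mem_range.1 hj),
    Finset.sum_congr rfl fun j hj => tr_slot hg (Finset.mem_range.1 hj), ← map_sum, ← map_sum,
    ← map_sub, sum_triangle (fun n : ℕ => f.coeff (-(n : ℤ)) * g.coeff (n : ℤ)) N,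
    sum_triangle (fun n : ℕ => g.coeff (-(n : ℤ)) * f.coeff (n : ℤ)) N, ← Finset.sum_sub_distrib]
  congr 1
  have hD : ∀ i < -(N : ℤ) - 1, (LocRes.D F g).coeff i = 0 := fun i hi => by
    rw [LocRes.D_coeff, hg _ (by omega), smul_zero]
  rw [LocRes.res_apply, coeff_mul_eq_sum hf hD]
  have := sum_sym (fun n : ℤ => f.coeff (-n) * g.coeff n) N
  refine Eq.trans (Finset.sum_congr rfl fun n _ => ?_) (this.symm.trans ?_)
  · rw [smul_sub]
    push_cast
    rw [neg_neg, mul_comm (g.coeff _) (f.coeff _)]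
  · refine Finset.sum_bij' (fun n _ => n - 1) (fun i _ => i + 1) ?_ ?_ ?_ ?_ ?_
    · intro n hn; rw [Finset.mem_Icc] at hn ⊢; omega
    · intro n hn; rw [Finset.mem_Icc] at hn ⊢; omega
    · intro n _; omega
    · intro n _; omega
    · intro n _
      rw [LocRes.D_coeff, sub_add_cancel, show -1 - (n - 1) = -n by ring, mul_smul_comm]

end Groth.Funfld2.Residue
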