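import Groth.Agent.Funfld2.Residue.FiniteRank
import Mathlib.LinearAlgebra.Basis.VectorSpace
import Mathlib.LinearAlgebra.Pi

/-! Commutator corners: independence of the projection and comparison along dense maps. -/

namespace Groth.Funfld2.Residue

variable {k : Type*} [Field k] {V W : Type*} [AddCommGroup V] [Module k V] [AddCommGroup W]
  [Module k W]

/-- A linear projection onto `L`. -/
def IsProjOn (π : V →ₗ[k] V) (L : Submodule k V) : Prop :=
  (∀ x, π x ∈ L) ∧ ∀ x ∈ L, π x = x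

/-- The part of `f` leaving the lattice. -/
def polarOp (π f : V →ₗ[k] V) : V →ₗ[k] V := (LinearMap.id - π) ∘ₗ f ∘ₗ π

/-- The corner operator. -/
def cornerOp (π f g : V →ₗ[k] V) : V →ₗ[k] V := π ∘ₗ g ∘ₗ (LinearMap.id - π) ∘ₗ f ∘ₗ π

theorem cornerOp_eq {π : V →ₗ[k] V} {L : Submodule k V} (h : IsProjOn π L) (f g : V →ₗ[k] V) :
    cornerOp π f g = (π ∘ₗ g ∘ₗ (LinearMap.id - π)) ∘ₗ polarOp π f := by
  ext x
  simp only [cornerOp, polarOp, LinearMap.comp_apply, LinearMap.sub_apply, LinearMap.id_apply,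
    map_sub, h.2 _ (h.1 _), sub_self, map_zero, sub_zero]

theorem fr_cornerOp {π : V →ₗ[k] V} {L : Submodule k V} (h : IsProjOn π L) {f : V →ₗ[k] V}
    (g : V →ₗ[k] V) (hf : FR (polarOp π f)) : FR (cornerOp π f g) := by
  rw [cornerOp_eq h]
  exact fr_comp_left hf _

theorem polarOp_change {π π' : V →ₗ[k] V} {L : Submodule k V} (h : IsProjOn π L)
    (h' : IsProjOn π' L) (f : V →ₗ[k] V) :
    polarOp π' f = (LinearMap.id - π') ∘ₗ (polarOp π f ∘ₗ π') := by
  ext x
  simp only [polarOp, LinearMap.comp_apply, LinearMap.sub_apply, LinearMap.id_apply, map_sub,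
    h.2 _ (h'.1 _), h'.2 _ (h.1 _)]
  abel

theorem fr_polarOp_change {π π' : V →ₗ[k] V} {L : Submodule k V} (h : IsProjOn π L)
    (h' : IsProjOn π' L) {f : V →ₗ[k] V} (hf : FR (polarOp π f)) : FR (polarOp π' f) := by
  rw [polarOp_change h h']
  exact fr_comp_left (fr_comp_right hf _) _

/-- The trace of the corner does not depend on the projection. -/
theorem tr_cornerOp_change {π π' : V →ₗ[k] V} {L : Submodule k V} (h : IsProjOn π L)
    (h' : IsProjOn π' L) {f g : V →ₗ[k] V} (hcomm : ∀ x, f (g x) = g (f x))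
    (hgL : ∀ x ∈ L, g x ∈ L) (hf : FR (polarOp π f)) :
    tr (cornerOp π' f g) = tr (cornerOp π f g) := by
  set A := polarOp π f with hA
  set δ := π' - π with hδ
  have hπ : ∀ x, π (π x) = π x := fun x => h.2 _ (h.1 x)
  have hπ' : ∀ x, π' (π' x) = π' x := fun x => h'.2 _ (h'.1 x)
  have hδL : ∀ x ∈ L, δ x = 0 := fun x hx => by
    rw [hδ, LinearMap.sub_apply, h.2 x hx, h'.2 x hx, sub_self]
  have hδmem : ∀ x, δ x ∈ L := fun x => sub_mem (h'.1 x) (h.1 x)
  have e1 : cornerOp π f g = (π ∘ₗ g ∘ₗ (LinearMap.id - π)) ∘ₗ A := cornerOp_eq h f g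
  have e2 : cornerOp π' f g = (π' ∘ₗ g ∘ₗ (LinearMap.id - π')) ∘ₗ (A ∘ₗ π') := by
    ext x
    simp only [hA, cornerOp, polarOp, LinearMap.comp_apply, LinearMap.sub_apply, LinearMap.id_apply,
      map_sub, h.2 _ (h'.1 _), h'.2 _ (h.1 _)]
    abel
  have e3 : A ∘ₗ π' ∘ₗ (π' ∘ₗ g ∘ₗ (LinearMap.id - π')) =
      A ∘ₗ (π' ∘ₗ g ∘ₗ (LinearMap.id - π')) := by
    ext x
    simp [hπ']
  rw [e1, e2, tr_cyclic' _ hf, tr_cyclic' _ (fr_comp_right hf _), LinearMap.comp_assoc, e3,
    ← sub_eq_zero, ← tr_sub (fr_comp_right hf _) (fr_comp_right hf _), ← LinearMap.comp_sub]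
  have e4 : π' ∘ₗ g ∘ₗ (LinearMap.id - π') - π ∘ₗ g ∘ₗ (LinearMap.id - π) =
      δ ∘ₗ g - g ∘ₗ δ := by
    ext x
    simp only [hδ, LinearMap.comp_apply, LinearMap.sub_apply, LinearMap.id_apply, map_sub,
      h'.2 _ (hgL _ (h'.1 x)), h.2 _ (hgL _ (h.1 x))]
    abel
  rw [e4, LinearMap.comp_sub, tr_sub (fr_comp_right hf _) (fr_comp_right hf _), sub_eq_zero,
    tr_cyclic hf, tr_cyclic hf]
  set E := δ ∘ₗ A with hE
  have e5 : (δ ∘ₗ g) ∘ₗ A = E ∘ₗ (g ∘ₗ π) := by
    ext x
    simp only [hE, hA, polarOp, LinearMap.comp_apply, LinearMap.sub_apply, LinearMap.id_apply,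
      map_sub, h.2 _ (hgL _ (h.1 x)), hcomm, hδL _ (hgL _ (h.1 _)), hδL _ (h.1 _)]
  have e6 : (g ∘ₗ π) ∘ₗ E = (g ∘ₗ δ) ∘ₗ A := by
    ext x
    simp only [hE, LinearMap.comp_apply, h.2 _ (hδmem _)]
  rw [e5, tr_cyclic (fr_comp_left hf _), e6]

/-- Corners along a dense injection. -/
theorem tr_cornerOp_dense {j : V →ₗ[k] W} (hj : Function.Injective j) {LW : Submodule k W}
    {L : Submodule k V} (hL : L = LW.comap j) {f g : V →ₗ[k] V} {fW gW : W →ₗ[k] W}
    (hjf : ∀ v, fW (j v) = j (f v)) (hjg : ∀ v, gW (j v) = j (g v))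
    (hcW : ∀ x, fW (gW x) = gW (fW x)) (hgW : ∀ x ∈ LW, gW x ∈ LW)
    (hd : ∀ w, ∃ v, w - j v ∈ LW ∧ fW (w - j v) ∈ LW) {πW : W →ₗ[k] W} (hπW : IsProjOn πW LW)
    (hfW : FR (polarOp πW fW)) {π : V →ₗ[k] V} (hπ : IsProjOn π L) :
    tr (cornerOp π f g) = tr (cornerOp πW fW gW) := by
  obtain ⟨C, hC⟩ := Submodule.exists_isCompl L
  set p : V →ₗ[k] V := L.subtype ∘ₗ L.projectionOnto C hC with hp
  have hpL : IsProjOn p L := ⟨fun x => SetLike.coe_mem _, fun x hx => by
    simp [hp, Submodule.projectionOnto_apply_left hC ⟨x, hx⟩]⟩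
  have hker : ∀ x, x - p x ∈ C := fun x => by
    rw [← Submodule.projectionOnto_apply_eq_zero_iff hC, map_sub, sub_eq_zero, hp,
      LinearMap.comp_apply, Submodule.subtype_apply, Submodule.projectionOnto_apply_left]
  have hcompl : IsCompl LW (C.map j) := by
    constructor
    · rw [Submodule.disjoint_def]
      rintro _ hz ⟨c, hc, rfl⟩
      have hcL : c ∈ L := hL ▸ Submodule.mem_comap.2 hz
      rw [(Submodule.disjoint_def.1 hC.disjoint) c hcL hc, map_zero]
    · rw [codisjoint_iff, eq_top_iff]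
      intro w _
      obtain ⟨v, hv, -⟩ := hd w
      have h1 : j (p v) ∈ LW := by
        have := hpL.1 v
        rwa [hL, Submodule.mem_comap] at this
      rw [show w = (w - j v + j (p v)) + j (v - p v) by rw [map_sub]; abel]
      exact Submodule.add_mem_sup (add_mem hv h1) ⟨_, hker v, rfl⟩
  set P : W →ₗ[k] W := LW.subtype ∘ₗ LW.projectionOnto (C.map j) hcompl with hP
  have hPW : IsProjOn P LW := ⟨fun x => SetLike.coe_mem _, fun x hx => by
    simp [hP, Submodule.projectionOnto_apply_left hcompl ⟨x, hx⟩]⟩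
  have hPj : ∀ v, P (j v) = j (p v) := fun v => by
    have h1 : j (p v) ∈ LW := by
      have := hpL.1 v
      rwa [hL, Submodule.mem_comap] at this
    have h2 : P (j (v - p v)) = 0 := by
      rw [hP, LinearMap.comp_apply,
        (Submodule.projectionOnto_apply_eq_zero_iff hcompl).2 ⟨_, hker v, rfl⟩, map_zero]
    rw [show j v = j (p v) + j (v - p v) by rw [← map_add]; abel_nf, map_add, h2, hPW.2 _ h1,
      add_zero]
  have hfP := fr_polarOp_change hπW hPW hfW
  have hfp : FR (polarOp p f) := by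
    have : FiniteDimensional k (LinearMap.range (polarOp P fW)) := hfP
    let r : LinearMap.range (polarOp p f) →ₗ[k] LinearMap.range (polarOp P fW) :=
      LinearMap.codRestrict _ (j ∘ₗ (LinearMap.range (polarOp p f)).subtype) fun x => by
        obtain ⟨y, hy⟩ := x.2
        refine ⟨j y, ?_⟩
        change polarOp P fW (j y) = j x.1
        rw [← hy]
        simp [polarOp, hjf, hPj]
    exact FiniteDimensional.of_injective r fun a b hab => Subtype.ext (hj (congrArg Subtype.val hab))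
  have hcV : ∀ x, f (g x) = g (f x) := fun x => hj (by rw [← hjf, ← hjg, hcW, hjf, hjg])
  have hgL : ∀ x ∈ L, g x ∈ L := fun x hx => by
    rw [hL, Submodule.mem_comap] at hx ⊢
    rw [← hjg]
    exact hgW _ hx
  rw [tr_cornerOp_change hpL hπ hcV hgL hfp, ← tr_cornerOp_change hπW hPW hcW hgW hfW]
  -- compare through `j`
  set T := cornerOp p f g with hT
  set TW := cornerOp P fW gW with hTW
  have hint : ∀ v, TW (j v) = j (T v) := fun v => by
    simp [hT, hTW, cornerOp, hjf, hjg, hPj]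
  have hrange : ∀ w, TW w ∈ (LinearMap.range T).map j := fun w => by
    obtain ⟨v, hv1, hv2⟩ := hd w
    refine ⟨T v, ⟨v, rfl⟩, ?_⟩
    have h0 : TW (w - j v) = 0 := by
      simp only [hTW, cornerOp, LinearMap.comp_apply, hPW.2 _ hv1, LinearMap.sub_apply,
        LinearMap.id_apply, hPW.2 _ hv2, sub_self, map_zero]
    rw [map_sub, sub_eq_zero] at h0
    rw [h0, hint]
  have hTfr : FiniteDimensional k (LinearMap.range T) := fr_cornerOp hpL g hfp
  let e := Submodule.equivMapOfInjective j hj (LinearMap.range T)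
  let v' : W →ₗ[k] LinearMap.range T := e.symm.toLinearMap ∘ₗ TW.codRestrict _ hrange
  have hfac : TW = (j ∘ₗ (LinearMap.range T).subtype) ∘ₗ v' := by
    ext w
    have := Submodule.coe_equivMapOfInjective_apply j hj (LinearMap.range T)
      (e.symm (TW.codRestrict _ hrange w))
    rw [LinearEquiv.apply_symm_apply] at this
    exact this
  rw [hfac, tr_comp, tr]
  congr 1
  ext x
  apply hj
  have := LinearMap.congr_fun hfac (j x.1)
  rw [hint] at this
  exact this

section Blocks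

variable {ι : Type*} [Fintype ι] [DecidableEq ι] {M : ι → Type*} [∀ i, AddCommGroup (M i)]
  [∀ i, Module k (M i)]

theorem eq_sum_blocks (T : (∀ i, M i) →ₗ[k] ∀ i, M i) :
    T = ∑ i, ∑ l, LinearMap.single k M i ∘ₗ
      ((LinearMap.proj i ∘ₗ T ∘ₗ LinearMap.single k M l) ∘ₗ LinearMap.proj l) := by
  refine LinearMap.ext fun w => funext fun i => ?_
  simp only [LinearMap.sum_apply, LinearMap.comp_apply, LinearMap.proj_apply, Finset.sum_apply,
    LinearMap.coe_single]
  rw [Finset.sum_eq_single i (fun a _ ha => Finset.sum_eq_zero fun l _ => by simp [ha.symm])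
    (by simp)]
  conv_lhs => rw [← Finset.univ_sum_single w, map_sum, Finset.sum_apply]
  simp

theorem fr_of_blocks {T : (∀ i, M i) →ₗ[k] ∀ i, M i}
    (h : ∀ i l, FR (LinearMap.proj i ∘ₗ T ∘ₗ LinearMap.single k M l)) : FR T := by
  rw [eq_sum_blocks T]
  exact fr_sum _ fun i _ => fr_sum _ fun l _ => fr_comp_left (fr_comp_right (h i l) _) _

theorem tr_blocks {T : (∀ i, M i) →ₗ[k] ∀ i, M i}
    (h : ∀ i l, FR (LinearMap.proj i ∘ₗ T ∘ₗ LinearMap.single k M l)) :
    tr T = ∑ i, tr (LinearMap.proj i ∘ₗ T ∘ₗ LinearMap.single k M i) := by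
  have hfr : ∀ i l, FR (LinearMap.single k M i ∘ₗ
      ((LinearMap.proj i ∘ₗ T ∘ₗ LinearMap.single k M l) ∘ₗ LinearMap.proj l)) :=
    fun i l => fr_comp_left (fr_comp_right (h i l) _) _
  conv_lhs => rw [eq_sum_blocks T]
  rw [tr_sum _ fun i _ => fr_sum _ fun l _ => hfr i l]
  refine Finset.sum_congr rfl fun i _ => ?_
  rw [tr_sum _ fun l _ => hfr i l, Finset.sum_eq_single i]
  · rw [tr_cyclic' _ (fr_comp_right (h i i) _)]
    congr 1
    ext w
    simp
  · intro l _ hl
    rw [tr_cyclic' _ (fr_comp_right (h i l) _)]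
    rw [show ((LinearMap.proj i ∘ₗ T ∘ₗ LinearMap.single k M l) ∘ₗ LinearMap.proj l) ∘ₗ
      LinearMap.single k M i = 0 by ext w; simp [hl], tr_zero]
  · simp

end Blocks

end Groth.Funfld2.Residue
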