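import Mathlib.LinearAlgebra.Trace
import Mathlib.LinearAlgebra.FiniteDimensional.Lemmas

/-! Traces of finite-rank endomorphisms and the abstract residue theorem of Tate. -/

namespace Groth.Funfld2.Residue

variable {k : Type*} [Field k]

/-- A linear map of finite rank. -/
def FR {V W : Type*} [AddCommGroup V] [Module k V] [AddCommGroup W] [Module k W]
    (T : V →ₗ[k] W) : Prop :=
  FiniteDimensional k (LinearMap.range T)

section FR

variable {U V W X : Type*} [AddCommGroup U] [Module k U] [AddCommGroup V] [Module k V]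
  [AddCommGroup W] [Module k W] [AddCommGroup X] [Module k X]

theorem fr_zero : FR (0 : V →ₗ[k] W) := by
  rw [FR, LinearMap.range_zero]
  infer_instance

theorem fr_neg {T : V →ₗ[k] W} (h : FR T) : FR (-T) := by
  rw [FR, LinearMap.range_neg]
  exact h

theorem fr_add {S T : V →ₗ[k] W} (hS : FR S) (hT : FR T) : FR (S + T) := by
  have : FiniteDimensional k (LinearMap.range S) := hS
  have : FiniteDimensional k (LinearMap.range T) := hT
  refine Submodule.finiteDimensional_of_le (S₂ := LinearMap.range S ⊔ LinearMap.range T) ?_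
  rintro _ ⟨x, rfl⟩
  exact add_mem (Submodule.mem_sup_left ⟨x, rfl⟩) (Submodule.mem_sup_right ⟨x, rfl⟩)

theorem fr_sub {S T : V →ₗ[k] W} (hS : FR S) (hT : FR T) : FR (S - T) := by
  rw [sub_eq_add_neg]
  exact fr_add hS (fr_neg hT)

theorem fr_comp_left {T : U →ₗ[k] V} (hT : FR T) (S : V →ₗ[k] W) : FR (S ∘ₗ T) := by
  have : FiniteDimensional k (LinearMap.range T) := hT
  rw [FR, LinearMap.range_comp]
  infer_instance

theorem fr_comp_right {S : V →ₗ[k] W} (hS : FR S) (T : U →ₗ[k] V) : FR (S ∘ₗ T) := by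
  have : FiniteDimensional k (LinearMap.range S) := hS
  exact Submodule.finiteDimensional_of_le (LinearMap.range_comp_le_range T S)

theorem fr_of_finite_mid [FiniteDimensional k V] (S : V →ₗ[k] W) (T : U →ₗ[k] V) :
    FR (S ∘ₗ T) :=
  fr_comp_right (Submodule.finiteDimensional_of_le (le_refl (LinearMap.range S))) T

theorem fr_sum {ι : Type*} (s : Finset ι) {T : ι → V →ₗ[k] W} (h : ∀ i ∈ s, FR (T i)) :
    FR (∑ i ∈ s, T i) :=
  Finset.sum_induction _ FR (fun _ _ => fr_add) fr_zero h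

end FR

section Trace

variable {U V W : Type*} [AddCommGroup U] [Module k U] [AddCommGroup V] [Module k V]
  [AddCommGroup W] [Module k W]

/-- The trace on the range. -/
noncomputable def tr (T : V →ₗ[k] V) : k :=
  LinearMap.trace k (LinearMap.range T) (T.rangeRestrict ∘ₗ (LinearMap.range T).subtype)

/-- The trace can be computed through any finite-dimensional factorization. -/
theorem tr_comp [FiniteDimensional k U] (u : U →ₗ[k] V) (v : V →ₗ[k] U) :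
    tr (u ∘ₗ v) = LinearMap.trace k U (v ∘ₗ u) := by
  have hfr : FiniteDimensional k (LinearMap.range (u ∘ₗ v)) := fr_of_finite_mid u v
  set R := LinearMap.range (u ∘ₗ v)
  let Uv := LinearMap.range v
  let a : Uv →ₗ[k] R := LinearMap.codRestrict R (u ∘ₗ Uv.subtype) fun x => by
    obtain ⟨y, hy⟩ := x.2
    exact ⟨y, by simp [← hy]⟩
  have e : (u ∘ₗ v).rangeRestrict ∘ₗ R.subtype = a ∘ₗ (v.rangeRestrict ∘ₗ R.subtype) := by
    ext x; rfl
  have hR : LinearMap.trace k R ((u ∘ₗ v).rangeRestrict ∘ₗ R.subtype) =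
      LinearMap.trace k Uv ((v.rangeRestrict ∘ₗ R.subtype) ∘ₗ a) := by
    rw [e, LinearMap.trace_comp_comm']
  rw [tr, hR]
  have e2 : (v.rangeRestrict ∘ₗ R.subtype) ∘ₗ a = (v ∘ₗ u).codRestrict Uv (fun x => ⟨u x, rfl⟩) ∘ₗ Uv.subtype := by
    ext x; rfl
  rw [e2, LinearMap.trace_comp_comm']
  congr 1

/-- The trace does not see a larger finite-dimensional space containing the range. -/
theorem tr_eq (T : V →ₗ[k] V) (R : Submodule k V) [FiniteDimensional k R]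
    (h : ∀ x, T x ∈ R) : tr T = LinearMap.trace k R (T.codRestrict R h ∘ₗ R.subtype) :=
  tr_comp R.subtype (T.codRestrict R h)

theorem tr_zero : tr (0 : V →ₗ[k] V) = 0 := by
  rw [show (0 : V →ₗ[k] V) = (⊥ : Submodule k V).subtype ∘ₗ 0 from rfl, tr_comp]
  simp

theorem tr_add {S T : V →ₗ[k] V} (hS : FR S) (hT : FR T) : tr (S + T) = tr S + tr T := by
  have : FiniteDimensional k (LinearMap.range S) := hS
  have : FiniteDimensional k (LinearMap.range T) := hT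
  set R := LinearMap.range S ⊔ LinearMap.range T
  have h1 : ∀ x, S x ∈ R := fun x => Submodule.mem_sup_left ⟨x, rfl⟩
  have h2 : ∀ x, T x ∈ R := fun x => Submodule.mem_sup_right ⟨x, rfl⟩
  rw [tr_eq S R h1, tr_eq T R h2, tr_eq (S + T) R fun x => add_mem (h1 x) (h2 x), ← map_add]
  congr 1

theorem tr_neg {T : V →ₗ[k] V} (hT : FR T) : tr (-T) = -tr T := by
  have h := tr_add hT (fr_neg hT)
  rw [add_neg_cancel, tr_zero] at h
  exact eq_neg_of_add_eq_zero_right h.symm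

theorem tr_sub {S T : V →ₗ[k] V} (hS : FR S) (hT : FR T) : tr (S - T) = tr S - tr T := by
  rw [sub_eq_add_neg, tr_add hS (fr_neg hT), tr_neg hT, sub_eq_add_neg]

theorem tr_sum {ι : Type*} (s : Finset ι) {T : ι → V →ₗ[k] V} (h : ∀ i ∈ s, FR (T i)) :
    tr (∑ i ∈ s, T i) = ∑ i ∈ s, tr (T i) := by
  classical
  induction s using Finset.induction_on with
  | empty => simp [tr_zero]
  | @insert a s ha ih =>
    rw [Finset.sum_insert ha, Finset.sum_insert ha,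
      tr_add (h a (Finset.mem_insert_self a s)) (fr_sum s fun i hi => h i (Finset.mem_insert_of_mem hi)),
      ih fun i hi => h i (Finset.mem_insert_of_mem hi)]

/-- `tr (x y) = tr (y x)` when `x` has finite rank. -/
theorem tr_cyclic {x : U →ₗ[k] V} (hx : FR x) (y : V →ₗ[k] U) :
    tr (x ∘ₗ y) = tr (y ∘ₗ x) := by
  have : FiniteDimensional k (LinearMap.range x) := hx
  rw [show x ∘ₗ y = (LinearMap.range x).subtype ∘ₗ (x.rangeRestrict ∘ₗ y) from rfl, tr_comp,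
    show y ∘ₗ x = (y ∘ₗ (LinearMap.range x).subtype) ∘ₗ x.rangeRestrict from rfl, tr_comp]
  rfl

theorem tr_cyclic' (x : U →ₗ[k] V) {y : V →ₗ[k] U} (hy : FR y) :
    tr (x ∘ₗ y) = tr (y ∘ₗ x) :=
  (tr_cyclic hy x).symm

end Trace

/-- Tate's abstract residue theorem. -/
theorem tr_commutator_eq_zero {W L : Type*} [AddCommGroup W] [Module k W] [AddCommGroup L]
    [Module k L] (π q f g : W →ₗ[k] W) (fL gL : L →ₗ[k] L) (j : L →ₗ[k] W) (r : W →ₗ[k] L)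
    (hπq : π + q = LinearMap.id) (hqq : q ∘ₗ q = q) (hfg : f ∘ₗ g = g ∘ₗ f)
    (hL : fL ∘ₗ gL = gL ∘ₗ fL) (hjf : f ∘ₗ j = j ∘ₗ fL) (hjg : g ∘ₗ j = j ∘ₗ gL)
    (hbf : FR (q ∘ₗ f ∘ₗ π)) (hbg : FR (q ∘ₗ g ∘ₗ π))
    (hcok : FR (q - q ∘ₗ j ∘ₗ r)) (hker : FR (LinearMap.id - r ∘ₗ q ∘ₗ j)) :
    tr (π ∘ₗ g ∘ₗ q ∘ₗ f ∘ₗ π - π ∘ₗ f ∘ₗ q ∘ₗ g ∘ₗ π) = 0 := by
  set a := q ∘ₗ f ∘ₗ q with ha
  set b := q ∘ₗ g ∘ₗ q with hb
  set i := q ∘ₗ j with hi
  set P := LinearMap.id - r ∘ₗ i with hP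
  have hPfr : FR P := hker
  have hπ : ∀ x, π x = x - q x := fun x => by
    have := congrArg (fun T : W →ₗ[k] W => T x) hπq
    simp only [LinearMap.add_apply, LinearMap.id_apply] at this
    exact eq_sub_of_add_eq this
  have hqq' : ∀ x, q (q x) = q x := fun x => LinearMap.congr_fun hqq x
  have hfg' : ∀ x, f (g x) = g (f x) := fun x => LinearMap.congr_fun hfg x
  -- the two corners have opposite traces
  set bf := q ∘ₗ f ∘ₗ π with hbf'
  set bg := q ∘ₗ g ∘ₗ π with hbg'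
  have hs1 : π ∘ₗ g ∘ₗ q ∘ₗ f ∘ₗ π = (π ∘ₗ g ∘ₗ q) ∘ₗ bf := by
    ext x; simp [hbf', hqq']
  have hs2 : π ∘ₗ f ∘ₗ q ∘ₗ g ∘ₗ π = (π ∘ₗ f ∘ₗ q) ∘ₗ bg := by
    ext x; simp [hbg', hqq']
  have hππ : ∀ x, π (π x) = π x := fun x => by simp [hπ, hqq']
  have hπq0 : ∀ x, π (q x) = 0 := fun x => by simp [hπ, hqq']
  have hcomm : bf ∘ₗ (π ∘ₗ g ∘ₗ q) - bg ∘ₗ (π ∘ₗ f ∘ₗ q) = -(a ∘ₗ b - b ∘ₗ a) := by
    ext x
    simp only [hbf', hbg', ha, hb, LinearMap.sub_apply, LinearMap.comp_apply, LinearMap.neg_apply,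
      hπ, map_sub, hqq', hfg']
    abel
  have hF1 : FR (bf ∘ₗ (π ∘ₗ g ∘ₗ q)) := fr_comp_right hbf _
  have hF2 : FR (bg ∘ₗ (π ∘ₗ f ∘ₗ q)) := fr_comp_right hbg _
  have key : tr (π ∘ₗ g ∘ₗ q ∘ₗ f ∘ₗ π - π ∘ₗ f ∘ₗ q ∘ₗ g ∘ₗ π) = -tr (a ∘ₗ b - b ∘ₗ a) := by
    rw [hs1, hs2, tr_sub (fr_comp_left hbf _) (fr_comp_left hbg _), tr_cyclic' _ hbf,
      tr_cyclic' _ hbg, ← tr_sub hF1 hF2, hcomm, tr_neg]
    have h := fr_neg (fr_sub hF1 hF2)
    rwa [hcomm, neg_neg] at h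
  rw [key, neg_eq_zero]
  -- compare with the operators on `L`
  have hδ : ∀ (h : W →ₗ[k] W) (hL' : L →ₗ[k] L), h ∘ₗ j = j ∘ₗ hL' → FR (q ∘ₗ h ∘ₗ π) →
      FR (q ∘ₗ h ∘ₗ q - i ∘ₗ hL' ∘ₗ r) := by
    intro h hL' hj hbh
    have e : q ∘ₗ h ∘ₗ q - i ∘ₗ hL' ∘ₗ r =
        (q ∘ₗ h ∘ₗ q) ∘ₗ (q - q ∘ₗ j ∘ₗ r) - (q ∘ₗ h ∘ₗ π) ∘ₗ (j ∘ₗ r) := by
      ext x
      have hj' := LinearMap.congr_fun hj (r x)
      simp only [LinearMap.comp_apply] at hj'
      simp only [hi, LinearMap.sub_apply, LinearMap.comp_apply, map_sub, hqq', hπ, hj']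
      abel
    rw [e]
    exact fr_sub (fr_comp_left hcok _) (fr_comp_right hbh _)
  set a₀ := i ∘ₗ fL ∘ₗ r with ha₀
  set b₀ := i ∘ₗ gL ∘ₗ r with hb₀
  have hδa : FR (a - a₀) := hδ f fL hjf hbf
  have hδb : FR (b - b₀) := hδ g gL hjg hbg
  set A := i ∘ₗ (gL ∘ₗ P ∘ₗ fL) ∘ₗ r with hA
  set B := i ∘ₗ (fL ∘ₗ P ∘ₗ gL) ∘ₗ r with hB
  have hAfr : FR A := fr_comp_left (fr_comp_right (fr_comp_left (fr_comp_right hPfr fL) gL) r) i
  have hBfr : FR B := fr_comp_left (fr_comp_right (fr_comp_left (fr_comp_right hPfr gL) fL) r) i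
  have hdec : a ∘ₗ b - b ∘ₗ a =
      ((a - a₀) ∘ₗ b - b ∘ₗ (a - a₀)) + (a₀ ∘ₗ (b - b₀) - (b - b₀) ∘ₗ a₀) + (A - B) := by
    ext x
    have hL' := LinearMap.congr_fun hL (r x)
    simp only [LinearMap.comp_apply] at hL'
    simp only [ha₀, hb₀, hA, hB, hP, LinearMap.sub_apply, LinearMap.add_apply, LinearMap.comp_apply,
      LinearMap.id_apply, map_sub, hL']
    abel
  have h1 : FR ((a - a₀) ∘ₗ b - b ∘ₗ (a - a₀)) :=
    fr_sub (fr_comp_right hδa _) (fr_comp_left hδa _)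
  have h2 : FR (a₀ ∘ₗ (b - b₀) - (b - b₀) ∘ₗ a₀) :=
    fr_sub (fr_comp_left hδb _) (fr_comp_right hδb _)
  rw [hdec, tr_add (fr_add h1 h2) (fr_sub hAfr hBfr), tr_add h1 h2,
    tr_sub (fr_comp_right hδa _) (fr_comp_left hδa _), tr_cyclic hδa, sub_self,
    tr_sub (fr_comp_left hδb _) (fr_comp_right hδb _), tr_cyclic' _ hδb, sub_self, zero_add,
    zero_add, tr_sub hAfr hBfr, sub_eq_zero]
  -- move `i` and `r` inside
  have hin : ∀ u v : L →ₗ[k] L, tr (i ∘ₗ (u ∘ₗ P ∘ₗ v) ∘ₗ r) =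
      tr (P ∘ₗ v ∘ₗ u) - tr ((P ∘ₗ v) ∘ₗ (P ∘ₗ u)) := by
    intro u v
    have hPv : FR (P ∘ₗ v) := fr_comp_right hPfr v
    have e : (P ∘ₗ v ∘ₗ r) ∘ₗ (i ∘ₗ u) = P ∘ₗ v ∘ₗ u - (P ∘ₗ v) ∘ₗ (P ∘ₗ u) := by
      ext x
      simp only [hP, LinearMap.sub_apply, LinearMap.comp_apply, LinearMap.id_apply, map_sub]
      abel
    rw [show i ∘ₗ (u ∘ₗ P ∘ₗ v) ∘ₗ r = (i ∘ₗ u) ∘ₗ (P ∘ₗ v ∘ₗ r) from rfl,
      tr_cyclic' _ (fr_comp_right hPfr _), e,
      tr_sub (fr_comp_right hPfr _) (fr_comp_right hPv _)]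
  rw [hA, hB, hin gL fL, hin fL gL, hL, tr_cyclic (fr_comp_right hPfr fL) (P ∘ₗ gL)]

end Groth.Funfld2.Residue
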