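import Groth.Agent.Funfld2.Residue.Compare
import Groth.Agent.Funfld2.Residue.Geometric
import Groth.Agent.FunFld1.IntClosure
import Mathlib.RingTheory.Trace.Basic

/-! The trace formula for residues. -/

open FunFld Groth.FunFld1
open WithZero (exp)
open scoped LaurentSeries WithZero

set_option linter.unusedSectionVars false

namespace Groth.Funfld2.Residue

section

variable {k K : Type*} [Field k] [Field K] [Algebra k K] {F : Type*} [Field F] [Algebra k F]

/-- An expansion as a linear map. -/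
noncomputable def expLin (φ : K →ₐ[k] F⸨X⸩) : K →ₗ[k] F⸨X⸩ where
  toFun := φ
  map_add' := map_add φ
  map_smul' c x := by
    rw [RingHom.id_apply, Algebra.smul_def, map_mul, LocRes.map_algebraMap,
      HahnSeries.C_mul_eq_smul, algebraMap_smul]

theorem expLin_apply (φ : K →ₐ[k] F⸨X⸩) (x : K) : expLin φ x = φ x := rfl

variable (k F) in
/-- Integral series. -/
noncomputable def intSeries : Submodule k F⸨X⸩ := LinearMap.ker (polar k F)

theorem mem_intSeries {f : F⸨X⸩} : f ∈ intSeries k F ↔ Valued.v f ≤ (1 : ℤᵐ⁰) := by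
  refine ⟨fun h => val_le_one_of_coeff fun i hi => ?_, fun h => LinearMap.mem_ker.2 (integral_of_val h)⟩
  have := congrArg (fun g : F⸨X⸩ => g.coeff i) (LinearMap.mem_ker.1 h)
  simpa [coeff_polar, if_pos hi] using this

theorem isProjOn_integral : IsProjOn (integral k F) (intSeries k F) := by
  refine ⟨fun x => mem_intSeries.2 (val_integral x), fun x hx => ?_⟩
  simp only [integral, LinearMap.sub_apply, LinearMap.id_apply, LinearMap.mem_ker.1 hx, sub_zero]

theorem id_sub_integral : LinearMap.id - integral k F = polar k F := by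
  rw [integral, sub_sub_cancel]

theorem fr_polarOp_mulBy [FiniteDimensional k F] (a : F⸨X⸩) :
    FR (polarOp (integral k F) (mulBy (k := k) a)) := by
  rw [polarOp, id_sub_integral]
  exact fr_polar_mul (N := (-a.order).toNat) fun i hi => HahnSeries.coeff_eq_zero_of_lt_order (by omega)

theorem tr_cornerOp_mulBy [FiniteDimensional k F] (a : F⸨X⸩) {b : F⸨X⸩}
    (hb : Valued.v b ≤ (1 : ℤᵐ⁰)) :
    tr (cornerOp (integral k F) (mulBy (k := k) a) (mulBy b)) =
      Algebra.trace k F (LocRes.res F (a * LocRes.D F b)) := by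
  have h1 : ∀ i < -((-a.order).toNat : ℤ), a.coeff i = 0 :=
    fun i hi => HahnSeries.coeff_eq_zero_of_lt_order (by omega)
  have h2 : ∀ i < -((-a.order).toNat : ℤ), b.coeff i = 0 :=
    fun i hi => coeff_eq_zero_of_val (N := 0) (by rwa [WithZero.exp_zero]) (by omega)
  have h0 : corner (k := k) b a = 0 := by
    refine LinearMap.ext fun h => ?_
    simp only [corner, LinearMap.comp_apply, mulBy_apply, LinearMap.zero_apply]
    rw [integral_of_val (f := b * integral k F h) (by rw [map_mul]; exact mul_le_one' hb (val_integral h)),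
      mul_zero, map_zero]
  have h3 := tr_corner_sub (k := k) h1 h2
  rw [h0, sub_zero] at h3
  rw [cornerOp, id_sub_integral]
  exact h3

/-- Approximation by elements of the field to any precision. -/
theorem exists_approx_exp {P : Place k K} {φ : K →ₐ[k] F⸨X⸩} (hφ : LocRes.IsExpansionAt P.1 φ)
    (h : F⸨X⸩) (N : ℕ) : ∃ x : K, Valued.v (h - φ x) ≤ exp (-(N : ℤ)) := by
  obtain ⟨t, ht⟩ := hφ.2.2
  have ht0 : t ≠ 0 := fun e => by rw [e, map_zero] at ht; exact WithZero.exp_ne_zero ht.symm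
  have hne : φ (t ^ N) ≠ 0 := by rw [map_ne_zero]; exact pow_ne_zero _ ht0
  obtain ⟨x, hx⟩ := exists_approx hφ (h / φ (t ^ N))
  refine ⟨x * t ^ N, ?_⟩
  have hv : Valued.v (φ (t ^ N)) = exp (N • (-1 : ℤ)) := by
    rw [hφ.1, map_pow, ht, ← WithZero.exp_nsmul]
  rw [map_mul φ, show h - φ x * φ (t ^ N) = (h / φ (t ^ N) - φ x) * φ (t ^ N) by
    rw [sub_mul, div_mul_cancel₀ _ hne], map_mul, hv]
  refine (mul_le_of_le_one_left' hx).trans_eq ?_
  congr 1; simp

end

section Lattice

variable {k : Type*} [Field k] {ι : Type*} [Fintype ι] [DecidableEq ι] {F : ι → Type*}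
  [∀ i, Field (F i)] [∀ i, Algebra k (F i)]

variable (k F) in
/-- The product lattice. -/
noncomputable def intLattice : Submodule k (∀ i, (F i)⸨X⸩) :=
  Submodule.pi Set.univ fun i => intSeries k (F i)

variable (k F) in
/-- The componentwise projection. -/
noncomputable def intProj : (∀ i, (F i)⸨X⸩) →ₗ[k] ∀ i, (F i)⸨X⸩ :=
  LinearMap.pi fun i => integral k (F i) ∘ₗ LinearMap.proj i

theorem mem_intLattice {w : ∀ i, (F i)⸨X⸩} :
    w ∈ intLattice k F ↔ ∀ i, Valued.v (w i) ≤ (1 : ℤᵐ⁰) := by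
  simp [intLattice, mem_intSeries]

theorem isProjOn_intProj : IsProjOn (intProj k F) (intLattice k F) :=
  ⟨fun x => mem_intLattice.2 fun i => val_integral _, fun x hx => funext fun i => by
    simp only [intProj, LinearMap.pi_apply, LinearMap.comp_apply, LinearMap.proj_apply]
    exact isProjOn_integral.2 _ (mem_intSeries.2 (mem_intLattice.1 hx i))⟩

theorem intProj_single (i : ι) (h : (F i)⸨X⸩) :
    intProj k F (Pi.single i h) = Pi.single i (integral k (F i) h) := by
  funext l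
  simp only [intProj, LinearMap.pi_apply, LinearMap.comp_apply, LinearMap.proj_apply]
  rcases eq_or_ne l i with rfl | hne
  · simp
  · simp [hne]

theorem proj_polarOp_single (f : (∀ i, (F i)⸨X⸩) →ₗ[k] ∀ i, (F i)⸨X⸩) (i l : ι) :
    LinearMap.proj i ∘ₗ polarOp (intProj k F) f ∘ₗ LinearMap.single k (fun i => (F i)⸨X⸩) l =
      polar k (F i) ∘ₗ (LinearMap.proj i ∘ₗ f ∘ₗ LinearMap.single k (fun i => (F i)⸨X⸩) l) ∘ₗ
        integral k (F l) := by
  rw [← id_sub_integral]
  refine LinearMap.ext fun h => ?_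
  simp only [polarOp, LinearMap.comp_apply, LinearMap.coe_single, intProj_single, LinearMap.proj_apply,
    LinearMap.sub_apply, LinearMap.id_apply, Pi.sub_apply]
  simp only [intProj, LinearMap.pi_apply, LinearMap.comp_apply, LinearMap.proj_apply]

theorem proj_cornerOp_single (f : (∀ i, (F i)⸨X⸩) →ₗ[k] ∀ i, (F i)⸨X⸩) (b : ∀ i, (F i)⸨X⸩)
    (i : ι) :
    LinearMap.proj i ∘ₗ cornerOp (intProj k F) f (LinearMap.pi fun i => mulBy (b i) ∘ₗ LinearMap.proj i) ∘ₗ
        LinearMap.single k (fun i => (F i)⸨X⸩) i =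
      cornerOp (integral k (F i))
        (LinearMap.proj i ∘ₗ f ∘ₗ LinearMap.single k (fun i => (F i)⸨X⸩) i) (mulBy (b i)) := by
  refine LinearMap.ext fun h => ?_
  simp only [cornerOp, LinearMap.comp_apply, LinearMap.coe_single, intProj_single, LinearMap.proj_apply,
    LinearMap.sub_apply, LinearMap.id_apply]
  simp only [intProj, LinearMap.pi_apply, LinearMap.comp_apply, LinearMap.proj_apply,
    LinearMap.sub_apply, LinearMap.id_apply, Pi.sub_apply]

variable [∀ i, FiniteDimensional k (F i)]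

/-- The trace of a block corner is the sum of the local residues on the diagonal. -/
theorem tr_cornerOp_pi (f : (∀ i, (F i)⸨X⸩) →ₗ[k] ∀ i, (F i)⸨X⸩) (a b : ∀ i, (F i)⸨X⸩)
    (hb : ∀ i, Valued.v (b i) ≤ (1 : ℤᵐ⁰))
    (hdiag : ∀ i, LinearMap.proj i ∘ₗ f ∘ₗ LinearMap.single k (fun i => (F i)⸨X⸩) i = mulBy (a i))
    (hoff : ∀ i l, FR (polar k (F i) ∘ₗ
      (LinearMap.proj i ∘ₗ f ∘ₗ LinearMap.single k (fun i => (F i)⸨X⸩) l) ∘ₗ integral k (F l))) :
    FR (polarOp (intProj k F) f) ∧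
      tr (cornerOp (intProj k F) f (LinearMap.pi fun i => mulBy (b i) ∘ₗ LinearMap.proj i)) =
        ∑ i, Algebra.trace k (F i) (LocRes.res (F i) (a i * LocRes.D (F i) (b i))) := by
  have hfr : FR (polarOp (intProj k F) f) :=
    fr_of_blocks fun i l => by rw [proj_polarOp_single]; exact hoff i l
  refine ⟨hfr, ?_⟩
  have hT : FR (cornerOp (intProj k F) f (LinearMap.pi fun i => mulBy (b i) ∘ₗ LinearMap.proj i)) :=
    fr_cornerOp isProjOn_intProj _ hfr
  rw [tr_blocks fun i l => fr_comp_left (fr_comp_right hT _) _]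
  refine Finset.sum_congr rfl fun i _ => ?_
  rw [proj_cornerOp_single, hdiag i, tr_cornerOp_mulBy _ (hb i)]

end Lattice

variable {k K K' : Type*} [Field k] [Field K] [Field K'] [Algebra k K] [Algebra K K'] [Algebra k K']
  [IsScalarTower k K K'] [FiniteDimensional K K']
  {F : Type*} [Field F] [Algebra k F] [FiniteDimensional k F] {P : Place k K} {φ : K →ₐ[k] F⸨X⸩}
  {F' : Place k K' → Type*} [∀ Q, Field (F' Q)] [∀ Q, Algebra k (F' Q)]
  [∀ Q, FiniteDimensional k (F' Q)] {ψ : ∀ Q, K' →ₐ[k] (F' Q)⸨X⸩}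

/-- `Res_P (tr y du) = ∑ Res_Q (y du)` for an integral `u`. -/
theorem trace_res_integral (hF : IsFF k K) (hφ : LocRes.IsExpansionAt P.1 φ)
    (Qs : Finset (Place k K')) (hQs : ∀ Q, Q ∈ Qs ↔ IsOver Q P)
    (hψ : ∀ Q ∈ Qs, LocRes.IsExpansionAt Q.1 (ψ Q)) (y : K') {u : K} (hu : P.1 u ≤ 1) :
    LocRes.locRes φ (Algebra.trace K K' y) u =
      ∑ Q ∈ Qs, LocRes.locRes (ψ Q) y (algebraMap K K' u) := by
  classical
  obtain ⟨b, hb⟩ := hF.exists_integral_basis (K' := K') P
  set U := algebraMap K K' u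
  let L : Submodule k K' := hF.semi P
  obtain ⟨C, hC⟩ := Submodule.exists_isCompl L
  let π : K' →ₗ[k] K' := L.subtype ∘ₗ L.projectionOnto C hC
  have hπ : IsProjOn π L := ⟨fun x => SetLike.coe_mem _, fun x hx => by
    simp [π, Submodule.projectionOnto_apply_left hC ⟨x, hx⟩]⟩
  let fV : K' →ₗ[k] K' := LinearMap.mulLeft k y
  let gV : K' →ₗ[k] K' := LinearMap.mulLeft k U
  -- below: matrices over `F((T))`
  let M : Fin (Module.finrank K K') → Fin (Module.finrank K K') → K := fun i l => b.repr (y * b l) i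
  let jP : K' →ₗ[k] (Fin (Module.finrank K K') → F⸨X⸩) :=
    LinearMap.pi fun i => expLin φ ∘ₗ ((b.coord i).restrictScalars k)
  let fP : (Fin (Module.finrank K K') → F⸨X⸩) →ₗ[k] (Fin (Module.finrank K K') → F⸨X⸩) :=
    LinearMap.pi fun i => ∑ l, mulBy (φ (M i l)) ∘ₗ LinearMap.proj l
  let gP : (Fin (Module.finrank K K') → F⸨X⸩) →ₗ[k] (Fin (Module.finrank K K') → F⸨X⸩) :=
    LinearMap.pi fun i => mulBy (φ u) ∘ₗ LinearMap.proj i
  have hU : ∀ f : F⸨X⸩, Valued.v f ≤ (1 : ℤᵐ⁰) → Valued.v (φ u * f) ≤ (1 : ℤᵐ⁰) := fun f hf => by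
    rw [map_mul, hφ.1]; exact mul_le_one' hu hf
  have hjP : ∀ z i, jP z i = φ (b.repr z i) := fun z i => rfl
  have hfP : ∀ w i, fP w i = ∑ l, φ (M i l) * w l := fun w i => by
    simp [fP, mulBy_apply]
  have hgP : ∀ w i, gP w i = φ u * w i := fun w i => rfl
  obtain ⟨hfrP, htrP⟩ := tr_cornerOp_pi (k := k) fP (fun i => φ (M i i)) (fun _ => φ u)
    (fun _ => (hφ.1 u).trans_le hu)
    (fun i => LinearMap.ext fun h => by
      simp only [LinearMap.comp_apply, LinearMap.proj_apply, hfP, mulBy_apply, LinearMap.coe_single]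
      rw [Finset.sum_eq_single i (fun l _ hl => by simp [hl]) (by simp)]
      simp)
    (fun i l => by
      rw [show LinearMap.proj i ∘ₗ fP ∘ₗ LinearMap.single k (fun _ => F⸨X⸩) l = mulBy (φ (M i l)) from
        LinearMap.ext fun h => by
          simp only [LinearMap.comp_apply, LinearMap.proj_apply, hfP, mulBy_apply, LinearMap.coe_single]
          rw [Finset.sum_eq_single l (fun m _ hm => by simp [hm]) (by simp)]
          simp]
      exact fr_polar_mul (N := (-(φ (M i l)).order).toNat) fun m hm =>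
        HahnSeries.coeff_eq_zero_of_lt_order (by omega))
  have hsideP : tr (cornerOp π fV gV) = LocRes.locRes φ (Algebra.trace K K' y) u := by
    rw [tr_cornerOp_dense (j := jP) (LW := intLattice k fun _ => F) ?_ ?_ (fW := fP) (gW := gP) ?_ ?_
      ?_ ?_ ?_ isProjOn_intProj hfrP hπ]
    · refine htrP.trans ?_
      rw [LocRes.locRes, LocRes.resExp, ← map_sum, ← map_sum, ← Finset.sum_mul, ← map_sum φ,
        Algebra.trace_eq_matrix_trace b]
      refine congrArg (Algebra.trace k F) (congrArg (LocRes.res F)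
        (congrArg (· * _) (congrArg φ (Finset.sum_congr rfl fun i _ => ?_))))
      rw [Matrix.diag_apply, Algebra.leftMulMatrix_eq_repr_mul]
    · intro z z' h
      refine b.repr.injective (Finsupp.ext fun i => φ.toRingHom.injective ?_)
      exact congrFun h i
    · ext z
      rw [show L = hF.semi P from rfl, Submodule.mem_comap, mem_intLattice, hb]
      exact forall_congr' fun i => by rw [hjP, hφ.1]
    · intro z
      funext i
      simp only [hfP, hjP, fV, LinearMap.mulLeft_apply, ← map_mul, ← map_sum]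
      congr 1
      conv_rhs => rw [← b.sum_repr z]
      simp only [Finset.mul_sum, map_sum, Algebra.mul_smul_comm, map_smul, Finsupp.smul_apply,
        Finsupp.coe_finsetSum, Finset.sum_apply, smul_eq_mul, M]
      exact Finset.sum_congr rfl fun l _ => mul_comm _ _
    · intro z
      funext i
      simp only [hgP, hjP, gV, LinearMap.mulLeft_apply, ← map_mul]
      rw [show U * z = u • z from (Algebra.smul_def u z).symm, map_smul, Finsupp.smul_apply, smul_eq_mul]
    · intro w
      funext i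
      simp only [hfP, hgP, Finset.mul_sum]
      exact Finset.sum_congr rfl fun l _ => by ring
    · intro w hw
      rw [mem_intLattice] at hw ⊢
      exact fun i => by rw [hgP]; exact hU _ (hw i)
    · intro w
      let N : ℕ := Finset.univ.sup fun p : _ × _ => (-(P.ord (M p.1 p.2))).toNat
      choose x hx using fun i => exists_approx_exp hφ (w i) N
      refine ⟨∑ i, x i • b i, ?_⟩
      have hsmall : ∀ i, Valued.v ((w - jP (∑ i, x i • b i)) i) ≤ exp (-(N : ℤ)) := fun i => by
        rw [Pi.sub_apply, hjP, b.repr_sum_self]; exact hx i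
      refine ⟨mem_intLattice.2 fun i => (hsmall i).trans
        (by rw [← WithZero.exp_zero, WithZero.exp_le_exp]; omega), mem_intLattice.2 fun i => ?_⟩
      rw [hfP]
      refine Valuation.map_sum_le _ fun l _ => ?_
      rw [map_mul, hφ.1]
      rcases eq_or_ne (M i l) 0 with h0 | h0
      · simp [h0]
      refine (mul_le_mul' le_rfl (hsmall l)).trans ?_
      rw [val_eq_exp_neg_ord P h0, ← WithZero.exp_add, ← WithZero.exp_zero, WithZero.exp_le_exp]
      have := Finset.le_sup (f := fun p : _ × _ => (-(P.ord (M p.1 p.2))).toNat) (Finset.mem_univ (i, l))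
      simp only at this
      omega
  -- above: one coordinate for each place
  let jQ : K' →ₗ[k] (∀ Q : Qs, (F' Q.1)⸨X⸩) := LinearMap.pi fun Q => expLin (ψ Q.1)
  let fQ : (∀ Q : Qs, (F' Q.1)⸨X⸩) →ₗ[k] (∀ Q : Qs, (F' Q.1)⸨X⸩) :=
    LinearMap.pi fun Q => mulBy (ψ Q.1 y) ∘ₗ LinearMap.proj Q
  let gQ : (∀ Q : Qs, (F' Q.1)⸨X⸩) →ₗ[k] (∀ Q : Qs, (F' Q.1)⸨X⸩) :=
    LinearMap.pi fun Q => mulBy (ψ Q.1 U) ∘ₗ LinearMap.proj Q
  have hUQ : ∀ Q : Qs, Q.1.1 U ≤ 1 := fun Q => (over_le_one_iff ((hQs _).1 Q.2) u).2 hu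
  obtain ⟨hfrQ, htrQ⟩ := tr_cornerOp_pi (k := k) fQ (fun Q => ψ Q.1 y) (fun Q => ψ Q.1 U)
    (fun Q => ((hψ _ Q.2).1 U).trans_le (hUQ Q))
    (fun Q => LinearMap.ext fun h => by simp [fQ, mulBy_apply])
    (fun Q R => by
      rcases eq_or_ne Q R with rfl | hne
      · rw [show LinearMap.proj Q ∘ₗ fQ ∘ₗ LinearMap.single k (fun Q : Qs => (F' Q.1)⸨X⸩) Q =
          mulBy (ψ Q.1 y) from LinearMap.ext fun h => by simp [fQ, mulBy_apply]]
        exact fr_polar_mul (N := (-(ψ Q.1 y).order).toNat) fun m hm =>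
          HahnSeries.coeff_eq_zero_of_lt_order (by omega)
      · rw [show LinearMap.proj Q ∘ₗ fQ ∘ₗ LinearMap.single k (fun Q : Qs => (F' Q.1)⸨X⸩) R = 0 from
          LinearMap.ext fun h => by simp [fQ, mulBy_apply, hne]]
        simp only [LinearMap.zero_comp, LinearMap.comp_zero]
        exact fr_zero)
  rw [← hsideP, tr_cornerOp_dense (j := jQ) (LW := intLattice k fun Q : Qs => F' Q.1) ?_ ?_
    (fW := fQ) (gW := gQ) ?_ ?_ ?_ ?_ ?_ isProjOn_intProj hfrQ hπ]
  · refine htrQ.trans ?_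
    rw [← Finset.sum_coe_sort Qs fun Q => LocRes.locRes (ψ Q) y U]
    rfl
  · obtain ⟨Q, hQ⟩ := hF.exists_over (K' := K') P
    intro z z' h
    exact (ψ Q).toRingHom.injective (congrFun h ⟨Q, (hQs Q).2 hQ⟩)
  · ext z
    rw [show L = hF.semi P from rfl, Submodule.mem_comap, mem_intLattice, IsFF.mem_semi]
    refine ⟨fun h Q => ((hψ _ Q.2).1 z).trans_le (h Q.1 ((hQs _).1 Q.2)), fun h Q hQ => ?_⟩
    rw [← (hψ Q ((hQs Q).2 hQ)).1]
    exact h ⟨Q, (hQs Q).2 hQ⟩
  · intro z
    funext Q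
    exact (map_mul (ψ Q.1) y z).symm
  · intro z
    funext Q
    exact (map_mul (ψ Q.1) U z).symm
  · intro w
    funext Q
    exact mul_left_comm _ _ _
  · intro w hw
    rw [mem_intLattice] at hw ⊢
    intro Q
    change Valued.v (ψ Q.1 U * w Q) ≤ (1 : ℤᵐ⁰)
    rw [map_mul, (hψ _ Q.2).1]
    exact mul_le_one' (hUQ Q) (hw Q)
  · intro w
    let N : ℕ := Qs.sup fun Q => (-(Q.ord y)).toNat
    choose x hx using fun Q : Qs => exists_approx_exp (hψ Q.1 Q.2) (w Q) N
    obtain ⟨z, hz⟩ := exists_val_sub_le Qs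
      (fun Q => if h : Q ∈ Qs then x ⟨Q, h⟩ else 0) (fun _ => -(N : ℤ))
    refine ⟨z, ?_⟩
    have hsmall : ∀ Q : Qs, Valued.v ((w - jQ z) Q) ≤ exp (-(N : ℤ)) := fun Q => by
      change Valued.v (w Q - ψ Q.1 z) ≤ _
      rw [show w Q - ψ Q.1 z = (w Q - ψ Q.1 (x Q)) + ψ Q.1 (x Q - z) by rw [map_sub]; abel]
      refine Valuation.map_add_le _ (hx Q) ?_
      rw [(hψ _ Q.2).1, ← neg_sub, Valuation.map_neg]
      have := hz Q.1 Q.2
      rwa [dif_pos Q.2] at this
    refine ⟨mem_intLattice.2 fun Q => (hsmall Q).trans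
      (by rw [← WithZero.exp_zero, WithZero.exp_le_exp]; omega), mem_intLattice.2 fun Q => ?_⟩
    change Valued.v (ψ Q.1 y * (w - jQ z) Q) ≤ (1 : ℤᵐ⁰)
    rw [map_mul, (hψ _ Q.2).1]
    rcases eq_or_ne y 0 with h0 | h0
    · simp [h0]
    refine (mul_le_mul' le_rfl (hsmall Q)).trans ?_
    rw [val_eq_exp_neg_ord Q.1 h0, ← WithZero.exp_add, ← WithZero.exp_zero, WithZero.exp_le_exp]
    have := Finset.le_sup (f := fun Q : Place k K' => (-(Q.ord y)).toNat) Q.2
    simp only [N] at *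
    omega

theorem dExp_smul_eq {L G : Type*} [Field L] [Algebra k L] [Field G] [Algebra k G]
    (ψ : L →ₐ[k] G⸨X⸩) {x z c : L}
    (h : c • KaehlerDifferential.D k L z = KaehlerDifferential.D k L x) :
    LocRes.D G (ψ x) = ψ c * LocRes.D G (ψ z) := by
  let _i := ψ.toRingHom.toAlgebra
  have _t : IsScalarTower k L G⸨X⸩ := LocRes.isScalarTower_exp ψ
  have : LocRes.dExp ψ x = c • LocRes.dExp ψ z := by
    rw [← Derivation.liftKaehlerDifferential_comp_D (LocRes.dExp ψ) x, ← h, map_smul,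
      Derivation.liftKaehlerDifferential_comp_D]
  exact this

/-- `Res_P (tr y dx) = ∑ Res_Q (y dx)`. -/
theorem trace_res (hF : IsFF k K) (hg : IsGeometric k K) (hφ : LocRes.IsExpansionAt P.1 φ)
    (Qs : Finset (Place k K')) (hQs : ∀ Q, Q ∈ Qs ↔ IsOver Q P)
    (hψ : ∀ Q ∈ Qs, LocRes.IsExpansionAt Q.1 (ψ Q)) (y : K') (x : K) :
    LocRes.locRes φ (Algebra.trace K K' y) x =
      ∑ Q ∈ Qs, LocRes.locRes (ψ Q) y (algebraMap K K' x) := by
  obtain ⟨x₁, hx₁⟩ := exists_smul_D_eq hF hg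
  obtain ⟨u, hu⟩ := hφ.2.2
  obtain ⟨a, ha⟩ := hx₁ (KaehlerDifferential.D k K u)
  obtain ⟨c, hc⟩ := hx₁ (KaehlerDifferential.D k K x)
  have ha0 : a ≠ 0 := fun h0 => by
    have h1 := dExp_smul_eq φ ha
    rw [h0, map_zero, zero_mul] at h1
    refine coeff_one_ne_zero hφ hu ?_
    rw [← D_coeff_zero, h1, HahnSeries.coeff_zero]
  have hxu : (c / a) • KaehlerDifferential.D k K u = KaehlerDifferential.D k K x := by
    rw [← ha, smul_smul, div_mul_cancel₀ _ ha0, hc]
  have key := trace_res_integral hF hφ Qs hQs hψ ((c / a) • y) (u := u)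
    (by rw [hu, ← WithZero.exp_zero, WithZero.exp_le_exp]; norm_num)
  rw [map_smul, smul_eq_mul] at key
  refine Eq.trans ?_ (key.trans (Finset.sum_congr rfl fun Q _ => ?_))
  · simp only [LocRes.locRes, LocRes.resExp, dExp_smul_eq φ hxu, map_mul]
    congr 2
    ring
  · have h2 : algebraMap K K' (c / a) • KaehlerDifferential.D k K' (algebraMap K K' u) =
        KaehlerDifferential.D k K' (algebraMap K K' x) := by
      rw [← KaehlerDifferential.map_D k k K K', ← KaehlerDifferential.map_D k k K K', ← hxu, map_smul,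
        algebraMap_smul]
    simp only [LocRes.locRes, LocRes.resExp, dExp_smul_eq (ψ Q) h2, Algebra.smul_def, map_mul]
    congr 2
    ring

end Groth.Funfld2.Residue
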