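import Groth.Agent.Funfld2.Residue.Local
import Groth.Agent.FunFld1.RiemannRoch

/-! The residue theorem for function fields of one variable (Tate's proof). -/

open FunFld Groth.FunFld1
open scoped LaurentSeries WithZero

namespace Groth.Funfld2.Residue

variable {k K : Type*} [Field k] [Field K] [Algebra k K] {F : Type*} [Field F] [Algebra k F]

theorem val_le_one_of_coeff {f : F⸨X⸩} (h : ∀ i < 0, f.coeff i = 0) : Valued.v f ≤ (1 : ℤᵐ⁰) := by
  rw [← WithZero.exp_zero, ← neg_zero]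
  exact (LaurentSeries.valuation_le_iff_coeff_lt_eq_zero F).2 h

theorem integral_of_val {f : F⸨X⸩} (h : Valued.v f ≤ (1 : ℤᵐ⁰)) : polar k F f = 0 := by
  ext i
  rw [coeff_polar, HahnSeries.coeff_zero]
  split_ifs with hi
  · exact coeff_eq_zero_of_val (N := 0) (by rwa [WithZero.exp_zero]) (by omega)
  · rfl

theorem val_integral (f : F⸨X⸩) : Valued.v (integral k F f) ≤ (1 : ℤᵐ⁰) :=
  val_le_one_of_coeff fun _ hi => coeff_integral_eq_zero f hi

theorem val_polar_eq {f : F⸨X⸩} (h : Valued.v f ≤ (1 : ℤᵐ⁰)) :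
    Valued.v (polar k F f) ≤ (1 : ℤᵐ⁰) := by
  rw [integral_of_val h, map_zero]
  exact zero_le

/-- Every Laurent series is an element of `K` plus an integral series. -/
theorem exists_approx {P : Place k K} {φ : K →ₐ[k] F⸨X⸩} (hφ : LocRes.IsExpansionAt P.1 φ)
    (h : F⸨X⸩) : ∃ x : K, Valued.v (h - φ x) ≤ (1 : ℤᵐ⁰) := by
  obtain ⟨t, ht⟩ := hφ.2.2
  have ht0 : t ≠ 0 := fun e => by rw [e, map_zero] at ht; exact WithZero.exp_ne_zero ht.symm
  suffices ∀ (N : ℕ) (h : F⸨X⸩), Valued.v h ≤ WithZero.exp (N : ℤ) →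
      ∃ x : K, Valued.v (h - φ x) ≤ (1 : ℤᵐ⁰) by
    rcases eq_or_ne (Valued.v h) (0 : ℤᵐ⁰) with h0 | h0
    · exact ⟨0, by simp [h0]⟩
    · refine this (WithZero.log (Valued.v h)).toNat h ?_
      rw [← WithZero.exp_log h0, WithZero.exp_le_exp]
      simp [Int.self_le_toNat]
  intro N
  induction N with
  | zero => exact fun h hh => ⟨0, by simpa using hh⟩
  | succ N ih =>
    intro h hh
    have he : Valued.v (φ (t ^ (N + 1))) = WithZero.exp (-((N : ℤ) + 1)) := by
      rw [hφ.1, map_pow, ht, ← WithZero.exp_nsmul]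
      simp
    set g := h * φ (t ^ (N + 1)) with hg
    have hg1 : Valued.v g ≤ (1 : ℤᵐ⁰) := by
      rw [hg, map_mul, he]
      refine (mul_le_mul' hh le_rfl).trans ?_
      rw [← WithZero.exp_add, ← WithZero.exp_zero, WithZero.exp_le_exp]
      push_cast; omega
    obtain ⟨b, hb, hb0⟩ := hφ.2.1 (g.coeff 0)
    have hgb : Valued.v (g - φ b) ≤ WithZero.exp (-(1 : ℤ)) := by
      refine (LaurentSeries.valuation_le_iff_coeff_lt_eq_zero F).2 fun i hi => ?_
      rcases lt_or_eq_of_le (show i ≤ 0 by omega) with hl | rfl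
      · have h1 : Valued.v (φ b) ≤ (1 : ℤᵐ⁰) := by rw [hφ.1]; exact hb
        rw [HahnSeries.coeff_sub, coeff_eq_zero_of_val (N := 0) (by rwa [WithZero.exp_zero]) (by omega),
          coeff_eq_zero_of_val (N := 0) (by rwa [WithZero.exp_zero]) (by omega), sub_zero]
      · rw [HahnSeries.coeff_sub, hb0, sub_self]
    have hstep : Valued.v (h - φ (b / t ^ (N + 1))) ≤ WithZero.exp (N : ℤ) := by
      have hne : φ (t ^ (N + 1)) ≠ 0 := by rw [map_ne_zero]; exact pow_ne_zero _ ht0
      have e : h - φ (b / t ^ (N + 1)) = (g - φ b) / φ (t ^ (N + 1)) := by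
        rw [map_div₀, hg, sub_div, mul_div_cancel_right₀ _ hne]
      rw [e, map_div₀, he]
      refine (div_le_div_of_nonneg_right hgb zero_le).trans_eq ?_
      rw [← WithZero.exp_sub]
      congr 1
      ring
    obtain ⟨x, hx⟩ := ih _ hstep
    exact ⟨b / t ^ (N + 1) + x, by rwa [map_add, ← sub_sub]⟩

section Global

variable {F : Place k K → Type*} [∀ P, Field (F P)] [∀ P, Algebra k (F P)]
  (φ : ∀ P, K →ₐ[k] (F P)⸨X⸩)

/-- The completed adeles. -/
def bigAdele : Submodule k (∀ P : Place k K, (F P)⸨X⸩) where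
  carrier := {h | ∀ᶠ P : Place k K in Filter.cofinite, Valued.v (h P) ≤ (1 : ℤᵐ⁰)}
  add_mem' {a b} ha hb := ((show ∀ᶠ P : Place k K in Filter.cofinite, Valued.v (a P) ≤ (1 : ℤᵐ⁰) from ha).and
    (show ∀ᶠ P : Place k K in Filter.cofinite, Valued.v (b P) ≤ (1 : ℤᵐ⁰) from hb)).mono
      fun P h => ((Valued.v : Valuation (F P)⸨X⸩ ℤᵐ⁰).map_add _ _).trans (max_le h.1 h.2)
  zero_mem' := by simp
  smul_mem' c a ha := (show ∀ᶠ P : Place k K in Filter.cofinite, Valued.v (a P) ≤ (1 : ℤᵐ⁰) from ha).mono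
    fun P h => val_le_one_of_coeff fun i hi => by
      rw [Pi.smul_apply, HahnSeries.coeff_smul,
        coeff_eq_zero_of_val (N := 0) (by rwa [WithZero.exp_zero]) (by omega), smul_zero]

theorem mem_bigAdele {h : ∀ P : Place k K, (F P)⸨X⸩} :
    h ∈ bigAdele (F := F) ↔ ∀ᶠ P : Place k K in Filter.cofinite, Valued.v (h P) ≤ (1 : ℤᵐ⁰) := Iff.rfl

/-- Componentwise operators preserving integral series almost everywhere. -/
noncomputable def mapW (T : ∀ P : Place k K, (F P)⸨X⸩ →ₗ[k] (F P)⸨X⸩)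
    (hT : ∀ᶠ P : Place k K in Filter.cofinite, ∀ x, Valued.v x ≤ (1 : ℤᵐ⁰) → Valued.v (T P x) ≤ (1 : ℤᵐ⁰)) :
    bigAdele (F := F) →ₗ[k] bigAdele (F := F) where
  toFun h := ⟨fun P => T P (h.1 P), ((mem_bigAdele.1 h.2).and hT).mono fun _ hP => hP.2 _ hP.1⟩
  map_add' a b := Subtype.ext (funext fun P => map_add (T P) _ _)
  map_smul' c a := Subtype.ext (funext fun P => map_smul (T P) _ _)

theorem mapW_apply (T : ∀ P : Place k K, (F P)⸨X⸩ →ₗ[k] (F P)⸨X⸩) (hT) (h : bigAdele (F := F))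
    (P : Place k K) : (mapW T hT h).1 P = T P (h.1 P) := rfl

/-- Projection to a component. -/
noncomputable def proj (P : Place k K) : bigAdele (F := F) →ₗ[k] (F P)⸨X⸩ :=
  (LinearMap.proj P).comp (bigAdele (F := F)).subtype

open scoped Classical in
/-- Insertion of a component. -/
noncomputable def emb (P : Place k K) : (F P)⸨X⸩ →ₗ[k] bigAdele (F := F) :=
  LinearMap.codRestrict _ (LinearMap.single k (fun P => (F P)⸨X⸩) P) fun x => by
    refine mem_bigAdele.2 ((Filter.eventually_cofinite_ne P).mono fun Q hQ => ?_)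
    rw [LinearMap.coe_single, Pi.single_eq_of_ne hQ, map_zero]
    exact zero_le

theorem proj_emb (P : Place k K) (x : (F P)⸨X⸩) : proj P (emb P x) = x := by
  simp [proj, emb]

theorem emb_proj_apply_ne {P Q : Place k K} (h : Q ≠ P) (x : (F P)⸨X⸩) : (emb P x).1 Q = 0 := by
  classical
  simp [emb, Pi.single_eq_of_ne h]

theorem emb_apply_same (P : Place k K) (x : (F P)⸨X⸩) : (emb P x).1 P = x := by
  simp [emb]

/-- An expansion as a linear map. -/
noncomputable def expL (P : Place k K) : K →ₗ[k] (F P)⸨X⸩ where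
  toFun := φ P
  map_add' := map_add (φ P)
  map_smul' c x := by
    rw [RingHom.id_apply, Algebra.smul_def, map_mul, LocRes.map_algebraMap,
      HahnSeries.C_mul_eq_smul, algebraMap_smul]

theorem expL_apply (P : Place k K) (x : K) : expL φ P x = φ P x := rfl

/-- Integral part, componentwise. -/
noncomputable def opπ : bigAdele (F := F) →ₗ[k] bigAdele (F := F) :=
  mapW (fun P => integral k (F P)) (Filter.Eventually.of_forall fun _ x _ => val_integral x)

/-- Polar part, componentwise. -/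
noncomputable def opq : bigAdele (F := F) →ₗ[k] bigAdele (F := F) :=
  mapW (fun P => polar k (F P)) (Filter.Eventually.of_forall fun _ _ hx => val_polar_eq hx)

theorem opπ_apply (h : bigAdele (F := F)) (P : Place k K) :
    (opπ h).1 P = integral k (F P) (h.1 P) := rfl

theorem opq_apply (h : bigAdele (F := F)) (P : Place k K) :
    (opq h).1 P = polar k (F P) (h.1 P) := rfl

theorem opq_opq : opq (k := k) (K := K) (F := F) ∘ₗ opq = opq :=
  LinearMap.ext fun h => Subtype.ext (funext fun P => by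
    rw [LinearMap.comp_apply, opq_apply, opq_apply]
    ext i; simp only [coeff_polar]; split_ifs <;> rfl)

variable (hK : IsFunctionField k K) (hφ : ∀ P, LocRes.IsExpansionAt P.1 (φ P))
include hK hφ

theorem eventually_integral (x : K) :
    ∀ᶠ P : Place k K in Filter.cofinite, Valued.v (φ P x) ≤ (1 : ℤᵐ⁰) := by
  refine ((IsFF.of_isFunctionField hK).finite_support_ord x).eventually_cofinite_notMem.mono
    fun P hP => ?_
  rw [(hφ P).1, val_le_one_iff]
  simp only [Function.mem_support, not_not] at hP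
  omega

theorem mulBy_preserves (x : K) : ∀ᶠ P : Place k K in Filter.cofinite, ∀ y, Valued.v y ≤ (1 : ℤᵐ⁰) →
    Valued.v (mulBy (k := k) (φ P x) y) ≤ (1 : ℤᵐ⁰) :=
  (eventually_integral φ hK hφ x).mono fun P hP y hy => by
    rw [mulBy_apply, map_mul]; exact mul_le_one' hP hy

/-- Multiplication by an element of `K`. -/
noncomputable def opm (x : K) : bigAdele (F := F) →ₗ[k] bigAdele (F := F) :=
  mapW (fun P => mulBy (φ P x)) (mulBy_preserves φ hK hφ x)

theorem opm_apply (x : K) (h : bigAdele (F := F)) (P : Place k K) :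
    (opm φ hK hφ x h).1 P = φ P x * h.1 P := rfl

/-- The diagonal. -/
noncomputable def opj : K →ₗ[k] bigAdele (F := F) :=
  LinearMap.codRestrict _ (LinearMap.pi (expL φ))
    fun x => mem_bigAdele.2 (eventually_integral φ hK hφ x)

theorem opj_apply (x : K) (P : Place k K) : (opj φ hK hφ x).1 P = φ P x := rfl

/-- The diagonal is Fredholm modulo integral series. -/
theorem exists_parametrix :
    ∃ r : bigAdele (F := F) →ₗ[k] K,
      FR (opq - opq ∘ₗ opj φ hK hφ ∘ₗ r) ∧ FR (LinearMap.id - r ∘ₗ opq ∘ₗ opj φ hK hφ) := by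
  classical
  have hF := IsFF.of_isFunctionField hK
  let A := LinearMap.ker (opq (k := k) (K := K) (F := F))
  let ι : K →ₗ[k] bigAdele (F := F) ⧸ A := A.mkQ ∘ₗ opj φ hK hφ
  have hker : FiniteDimensional k (LinearMap.ker ι) := by
    have := hF.finiteDimensional_L (0 : Divisor k K)
    refine Submodule.finiteDimensional_of_le (S₂ := L (0 : Divisor k K)) fun x hx => ?_
    have h1 : opq (opj φ hK hφ x) = 0 := (Submodule.Quotient.mk_eq_zero A).1 hx
    intro P
    rw [Finsupp.zero_apply, WithZero.exp_zero, ← (hφ P).1]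
    refine val_le_one_of_coeff fun i hi => ?_
    have h2 := congrArg (fun w : bigAdele (F := F) => (w.1 P).coeff i) h1
    simp only [opq_apply, opj_apply, coeff_polar, if_pos hi] at h2
    exact h2
  let ev : adele k K →ₗ[k] bigAdele (F := F) :=
    LinearMap.codRestrict _ (LinearMap.pi fun P => expL φ P ∘ₗ LinearMap.proj P ∘ₗ
      (adele k K).subtype) fun a => by
        have ha : ∀ᶠ P : Place k K in Filter.cofinite, P.1 (a.1 P) ≤ 1 := a.2
        refine mem_bigAdele.2 (ha.mono fun P hP => ?_)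
        change Valued.v (φ P (a.1 P)) ≤ 1
        rw [(hφ P).1]; exact hP
  have hev : ∀ (a : adele k K) (P : Place k K), (ev a).1 P = φ P (a.1 P) := fun _ _ => rfl
  have hcoker : FiniteDimensional k ((bigAdele (F := F) ⧸ A) ⧸ LinearMap.range ι) := by
    obtain ⟨hfin, -⟩ := adele_quotient hK (0 : Divisor k K)
    have hA : ∀ w₁ w₂ : bigAdele (F := F),
        (∀ P, Valued.v (w₁.1 P - w₂.1 P) ≤ (1 : ℤᵐ⁰)) → A.mkQ w₁ = A.mkQ w₂ := fun w₁ w₂ hw => by
      rw [Submodule.mkQ_apply, Submodule.mkQ_apply, Submodule.Quotient.eq, LinearMap.mem_ker]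
      refine Subtype.ext (funext fun P => ?_)
      rw [opq_apply]
      exact integral_of_val (hw P)
    let Ψ := (LinearMap.range ι).mkQ ∘ₗ A.mkQ ∘ₗ ev
    have hle : ADK (0 : Divisor k K) ≤ LinearMap.ker Ψ := by
      intro a ha
      obtain ⟨b, hb, c, ⟨x, rfl⟩, hbc⟩ := Submodule.mem_sup.1 (Submodule.mem_comap.1 ha)
      rw [LinearMap.mem_ker]
      change (LinearMap.range ι).mkQ (A.mkQ (ev a)) = 0
      rw [Submodule.mkQ_apply, Submodule.Quotient.mk_eq_zero]
      refine ⟨x, hA _ _ fun P => ?_⟩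
      have e : a.1 P = b P + x := (congrFun hbc P).symm
      rw [opj_apply, hev, ← map_sub, (hφ P).1, e, sub_add_cancel_right, Valuation.map_neg]
      simpa using hb P
    refine Module.Finite.of_surjective ((ADK (0 : Divisor k K)).liftQ Ψ hle) ?_
    intro y
    obtain ⟨y', rfl⟩ := Submodule.mkQ_surjective _ y
    obtain ⟨h, rfl⟩ := Submodule.mkQ_surjective _ y'
    choose x hx using fun P => exists_approx (hφ P) (h.1 P)
    let a : Place k K → K := fun P => if Valued.v (h.1 P) ≤ (1 : ℤᵐ⁰) then 0 else x P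
    have ha : a ∈ adele k K := by
      change ∀ᶠ P : Place k K in Filter.cofinite, P.1 (a P) ≤ 1
      refine (mem_bigAdele.1 h.2).mono fun P hP => ?_
      simp [a, hP]
    refine ⟨Submodule.Quotient.mk ⟨a, ha⟩, ?_⟩
    rw [Submodule.liftQ_apply]
    refine congrArg (LinearMap.range ι).mkQ (hA _ _ fun P => ?_)
    rw [hev, ← Valuation.map_neg Valued.v, neg_sub]
    by_cases hP : Valued.v (h.1 P) ≤ (1 : ℤᵐ⁰)
    · simpa [a, hP] using hP
    · simpa [a, hP] using hx P
  obtain ⟨s₀, hs₀⟩ := ι.rangeRestrict.exists_rightInverse_of_surjective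
    (LinearMap.range_eq_top.2 ι.surjective_rangeRestrict)
  obtain ⟨s, hs⟩ := LinearMap.exists_extend s₀
  have hιsι : ∀ x, ι (s (ι x)) = ι x := by
    intro x
    have h1 : s (ι x) = s₀ (ι.rangeRestrict x) := LinearMap.congr_fun hs (ι.rangeRestrict x)
    rw [h1]
    exact congrArg Subtype.val (LinearMap.congr_fun hs₀ (ι.rangeRestrict x))
  have hmkq : ∀ h, A.mkQ (opq h) = A.mkQ h := fun h => by
    rw [Submodule.mkQ_apply, Submodule.mkQ_apply, Submodule.Quotient.eq, LinearMap.mem_ker, map_sub,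
      sub_eq_zero]
    exact LinearMap.congr_fun opq_opq h
  refine ⟨s ∘ₗ A.mkQ, ?_, ?_⟩
  · let E := LinearMap.id - ι ∘ₗ s
    have hle : LinearMap.range ι ≤ LinearMap.ker E := by
      rintro _ ⟨x, rfl⟩
      simp [E, hιsι]
    have e : opq - opq ∘ₗ opj φ hK hφ ∘ₗ (s ∘ₗ A.mkQ) =
        A.liftQ opq le_rfl ∘ₗ ((LinearMap.range ι).liftQ E hle ∘ₗ (LinearMap.range ι).mkQ) ∘ₗ A.mkQ := by
      refine LinearMap.ext fun h => ?_
      simp only [E, ι, LinearMap.sub_apply, LinearMap.comp_apply, LinearMap.id_apply, map_sub,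
        Submodule.mkQ_apply, Submodule.liftQ_apply]
    rw [e]
    exact fr_comp_left (fr_comp_right (fr_of_finite_mid _ _) _) _
  · refine Submodule.finiteDimensional_of_le (S₂ := LinearMap.ker ι) ?_
    rintro _ ⟨x, rfl⟩
    rw [LinearMap.mem_ker]
    simp only [LinearMap.sub_apply, LinearMap.comp_apply, LinearMap.id_apply, hmkq, map_sub]
    exact sub_eq_zero.2 (hιsι x).symm

theorem fr_opq_opm_opπ [∀ P, FiniteDimensional k (F P)] (x : K) :
    FR (opq ∘ₗ opm φ hK hφ x ∘ₗ opπ) := by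
  classical
  obtain ⟨S', hS'⟩ : ∃ S' : Finset (Place k K), ∀ P ∉ S', Valued.v (φ P x) ≤ (1 : ℤᵐ⁰) := by
    have hfin := Filter.eventually_cofinite.1 (eventually_integral φ hK hφ x)
    exact ⟨hfin.toFinset, fun P hP => by simpa using hP⟩
  have e : opq ∘ₗ opm φ hK hφ x ∘ₗ opπ = ∑ P ∈ S', emb P ∘ₗ
      (polar k (F P) ∘ₗ mulBy (φ P x) ∘ₗ integral k (F P)) ∘ₗ proj P := by
    refine LinearMap.ext fun h => Subtype.ext (funext fun Q => ?_)
    rw [LinearMap.sum_apply, AddSubmonoidClass.coe_finsetSum, Finset.sum_apply]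
    simp only [LinearMap.comp_apply, opq_apply, opm_apply, opπ_apply]
    by_cases hQ : Q ∈ S'
    · rw [Finset.sum_eq_single_of_mem Q hQ fun P _ hP => emb_proj_apply_ne hP.symm _, emb_apply_same]
      rfl
    · rw [Finset.sum_eq_zero fun P hP => emb_proj_apply_ne (fun e : Q = P => hQ (e ▸ hP)) _]
      exact integral_of_val (by rw [map_mul]; exact mul_le_one' (hS' Q hQ) (val_integral _))
  rw [e]
  refine fr_sum _ fun P _ => fr_comp_left (fr_comp_right ?_ _) _
  obtain ⟨N, hN⟩ : ∃ N : ℕ, ∀ i < -(N : ℤ), (φ P x).coeff i = 0 :=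
    ⟨(-(φ P x).order).toNat, fun i hi => HahnSeries.coeff_eq_zero_of_lt_order (by omega)⟩
  exact fr_polar_mul hN

/-- Finiteness of the support and vanishing of the sum of residues. -/
theorem residue_theorem [∀ P, FiniteDimensional k (F P)] (u v : K) :
    (Function.support fun P => LocRes.locRes (φ P) u v).Finite ∧
      ∑ᶠ P, LocRes.locRes (φ P) u v = 0 := by
  classical
  have hF := IsFF.of_isFunctionField hK
  set Sset := {P : Place k K | ¬ (Valued.v (φ P u) ≤ (1 : ℤᵐ⁰) ∧ Valued.v (φ P v) ≤ (1 : ℤᵐ⁰))}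
  have hSfin : Sset.Finite := Filter.eventually_cofinite.1
    ((eventually_integral φ hK hφ u).and (eventually_integral φ hK hφ v))
  set S := hSfin.toFinset
  have hgood : ∀ P ∉ S, Valued.v (φ P u) ≤ (1 : ℤᵐ⁰) ∧ Valued.v (φ P v) ≤ (1 : ℤᵐ⁰) := by
    intro P hP
    rw [Set.Finite.mem_toFinset] at hP
    simpa [Sset] using hP
  -- local values
  let T : ∀ P, (F P)⸨X⸩ →ₗ[k] (F P)⸨X⸩ := fun P =>
    corner (φ P u) (φ P v) - corner (φ P v) (φ P u)
  have hNP : ∀ P, ∃ N : ℕ, (∀ i < -(N : ℤ), (φ P u).coeff i = 0) ∧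
      ∀ i < -(N : ℤ), (φ P v).coeff i = 0 := by
    intro P
    have hb : ∀ f : (F P)⸨X⸩, ∃ N : ℕ, ∀ i < -(N : ℤ), f.coeff i = 0 := fun f => by
      refine ⟨(-f.order).toNat, fun i hi => HahnSeries.coeff_eq_zero_of_lt_order ?_⟩
      omega
    obtain ⟨N₁, h₁⟩ := hb (φ P u)
    obtain ⟨N₂, h₂⟩ := hb (φ P v)
    exact ⟨max N₁ N₂, fun i hi => h₁ i (by omega), fun i hi => h₂ i (by omega)⟩
  have hTfr : ∀ P, FR (T P) := fun P => by
    obtain ⟨N, h1, h2⟩ := hNP P
    exact fr_sub (fr_corner _ h1) (fr_corner _ h2)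
  have hTtr : ∀ P, tr (T P) = LocRes.locRes (φ P) u v := fun P => by
    obtain ⟨N, h1, h2⟩ := hNP P
    exact tr_corner_sub h1 h2
  have hTzero : ∀ P ∉ S, T P = 0 := by
    intro P hP
    refine LinearMap.ext fun h => ?_
    have hz : ∀ f : (F P)⸨X⸩, Valued.v f ≤ (1 : ℤᵐ⁰) → polar k (F P) (f * integral k (F P) h) = 0 :=
      fun f hf => integral_of_val (by
        rw [map_mul]; exact mul_le_one' hf (val_integral h))
    simp only [T, corner, LinearMap.sub_apply, LinearMap.comp_apply, mulBy_apply,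
      hz _ (hgood P hP).1, hz _ (hgood P hP).2, mul_zero, map_zero, sub_zero, LinearMap.zero_apply]
  have hsupp : (Function.support fun P => LocRes.locRes (φ P) u v) ⊆ ↑S := by
    intro P hP
    by_contra hn
    refine hP ?_
    change LocRes.locRes (φ P) u v = 0
    rw [← hTtr, hTzero P hn, tr_zero]
  refine ⟨S.finite_toSet.subset hsupp, ?_⟩
  rw [finsum_eq_sum_of_support_subset _ hsupp]
  let π := opπ (k := k) (K := K) (F := F)
  let q := opq (k := k) (K := K) (F := F)
  let m := opm φ hK hφ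
  let G := π ∘ₗ m v ∘ₗ q ∘ₗ m u ∘ₗ π - π ∘ₗ m u ∘ₗ q ∘ₗ m v ∘ₗ π
  have hG : G = ∑ P ∈ S, emb P ∘ₗ T P ∘ₗ proj P := by
    refine LinearMap.ext fun h => Subtype.ext (funext fun Q => ?_)
    have lhs : (G h).1 Q = T Q (h.1 Q) := rfl
    rw [lhs, LinearMap.sum_apply, AddSubmonoidClass.coe_finsetSum, Finset.sum_apply]
    simp only [LinearMap.comp_apply]
    by_cases hQ : Q ∈ S
    · rw [Finset.sum_eq_single_of_mem Q hQ fun P _ hP => emb_proj_apply_ne hP.symm _, emb_apply_same]
      rfl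
    · rw [Finset.sum_eq_zero fun P hP => emb_proj_apply_ne (fun e : Q = P => hQ (e ▸ hP)) _,
        hTzero Q hQ, LinearMap.zero_apply]
  have hsum : tr G = ∑ P ∈ S, LocRes.locRes (φ P) u v := by
    rw [hG, tr_sum _ fun P _ => fr_comp_left (fr_comp_right (hTfr P) _) _]
    refine Finset.sum_congr rfl fun P _ => ?_
    rw [tr_cyclic' _ (fr_comp_right (hTfr P) _), ← hTtr P]
    congr 1
    exact LinearMap.ext fun x => congrArg (T P) (proj_emb P x)
  rw [← hsum]
  obtain ⟨r, hr1, hr2⟩ := exists_parametrix φ hK hφ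
  refine tr_commutator_eq_zero π q (m u) (m v) (LinearMap.mulLeft k u) (LinearMap.mulLeft k v)
    (opj φ hK hφ) r ?_ opq_opq ?_ ?_ ?_ ?_ (fr_opq_opm_opπ φ hK hφ u) (fr_opq_opm_opπ φ hK hφ v) hr1 hr2
  · exact LinearMap.ext fun h => Subtype.ext (funext fun P => sub_add_cancel (h.1 P) _)
  · exact LinearMap.ext fun h => Subtype.ext (funext fun P => mul_left_comm _ _ _)
  · exact LinearMap.ext fun y => mul_left_comm u v y
  · exact LinearMap.ext fun y => Subtype.ext (funext fun P => ((φ P).map_mul u y).symm)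
  · exact LinearMap.ext fun y => Subtype.ext (funext fun P => ((φ P).map_mul v y).symm)

end Global

end Groth.Funfld2.Residue
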